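/-
One-parameter subgroups are conjugate into a maximal torus.
-/
import Groth.Agent.SolvGrp.MaxTorus
import Groth.Agent.SolvGrp.Cent
import Groth.Agent.AGFLib.GeomBC
import Groth.Agent.TorusQI.QuotientTorus
import Groth.Agent.GrpSchLib.AffineHopf

set_option backward.isDefEq.respectTransparency false
set_option backward.isDefEq.respectTransparency.types false
set_option linter.style.haveILetI false

universe u

open CategoryTheory Limits MonoidalCategory CartesianMonoidalCategory MonObj AlgebraicGeometry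

namespace Groth.Agent.HMTorus

open GrpSchLib AGFLib AGFLib.Gen AGFLib.BorelFixed AGFLib.BorelExist SolvGrp

variable {k : Type u} [Field k] [IsAlgClosed k]

local notation "PT" => 𝟙_ (Over (Spec (CommRingCat.of k)))

/-- The geometric point of an algebraically closed field is an isomorphism. -/
theorem isIso_geomPt (s : Spec (CommRingCat.of k)) : IsIso (Red.geomPt s) := by
  haveI := GeomBC.isIntegralHom_geomPt s
  obtain ⟨φ, hφ⟩ := Spec.map_surjective (Red.geomPt s)
  have hi : IsIntegralHom (Spec.map φ) := hφ.symm ▸ inferInstance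
  rw [IsIntegralHom.SpecMap_iff] at hi
  rw [← hφ]
  haveI : IsIso φ := by
    letI := φ.hom.toAlgebra
    haveI : Algebra.IsIntegral k (AlgebraicClosure ((Spec (CommRingCat.of k)).residueField s)) := ⟨hi⟩
    exact (ConcreteCategory.isIso_iff_bijective φ).mpr IsAlgClosed.algebraMap_bijective_of_isIntegral
  infer_instance

theorem isIso_pullback_fst (X : Over (Spec (CommRingCat.of k))) (s : Spec (CommRingCat.of k)) :
    IsIso (pullback.fst X.hom (Red.geomPt s)) := by
  haveI := isIso_geomPt s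
  infer_instance

/-- Over an algebraically closed field a maximal torus is one on points. -/
theorem isMaxTorus_of_isMaximalTorus {G T : Over (Spec (CommRingCat.of k))} [GrpObj G] [GrpObj T] {iT : T ⟶ G}
    (hT : Red.IsMaximalTorus iT) : AGF.IsMaxTorus iT := by
  refine ⟨hT.1, hT.2.1, hT.2.2.1, fun T' _ j _ _ f hT' hf => ?_⟩
  let s := GeomBC.pt k
  haveI : (Over.pullback (Red.geomPt s)).IsRightAdjoint := (Over.mapPullbackAdj (Red.geomPt s)).isRightAdjoint
  haveI : IsIso ((Over.pullback (Red.geomPt s)).map f) :=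
    hT.2.2.2 s _ ((Over.pullback (Red.geomPt s)).map j) _ (isTorus_bc _ hT') (by rw [← Functor.map_comp, hf])
  haveI := isIso_pullback_fst T s
  haveI := isIso_pullback_fst T' s
  haveI : IsIso ((Over.pullback (Red.geomPt s)).map f).left :=
    ((Over.forget _).mapIso (asIso ((Over.pullback (Red.geomPt s)).map f))).isIso_hom
  have e : pullback.fst T.hom (Red.geomPt s) ≫ f.left =
      ((Over.pullback (Red.geomPt s)).map f).left ≫ pullback.fst T'.hom (Red.geomPt s) := by
    exact (pullback.lift_fst _ _ _).symm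
  haveI : IsIso (pullback.fst T.hom (Red.geomPt s) ≫ f.left) := by rw [e]; infer_instance
  haveI : IsIso ((Over.forget _).map f) := IsIso.of_isIso_comp_left (pullback.fst T.hom (Red.geomPt s)) f.left
  exact isIso_of_reflects_iso f (Over.forget _)

theorem props_of_isReductive {G : Over (Spec (CommRingCat.of k))} [GrpObj G] (hG : Red.IsReductive G) :
    IsAffine G.left ∧ Smooth G.hom ∧ ConnectedSpace G.left := by
  haveI := hG.1
  refine ⟨isAffine_of_isAffineHom G.hom, hG.2.1, ?_⟩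
  let s := GeomBC.pt k
  haveI : ConnectedSpace ↥(pullback G.hom (Red.geomPt s)) := (hG.2.2 s).2.2.1
  haveI := isIso_pullback_fst G s
  exact (pullback.fst G.hom (Red.geomPt s)).surjective.connectedSpace (pullback.fst G.hom (Red.geomPt s)).continuous

variable {G : Over (Spec (CommRingCat.of k))} [GrpObj G] [IsAffine G.left] [Smooth G.hom] [ConnectedSpace G.left]

theorem isTorus_Gm : Red.IsTorus (Red.Gm (Spec (CommRingCat.of k))) := by
  obtain ⟨d⟩ := TorusQI.nonempty_DS_congr (S := Spec (CommRingCat.of k)) (AddEquiv.funUnique (Fin 1) ℤ)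
  exact isTorus_of_iso d (TorusQI.isTorus_DS 1)

/-- A homomorphism from a torus is conjugate into a maximal torus. -/
theorem exists_conj_maxTorus {T : Over (Spec (CommRingCat.of k))} [GrpObj T] (iT : T ⟶ G) [IsMonHom iT]
    (hT : AGF.IsMaxTorus iT) {S : Over (Spec (CommRingCat.of k))} [GrpObj S] (j : S ⟶ G) [IsMonHom j]
    (hS : Red.IsTorus S) : ∃ (g : PT ⟶ G) (φ : S ⟶ T), IsMonHom φ ∧ φ ≫ iT = AGF.conjBy g j := by
  haveI : IsReduced G.left := isReduced_of_smooth_field G.hom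
  haveI := hT.2.1
  obtain ⟨hcT, hsmT, -, -, hlT, -, -⟩ := torus_sub hT.2.2.1 iT
  haveI := hcT
  haveI := hlT
  obtain ⟨BT, _, iBT, t, hBT, ht⟩ := exists_borel_maxTorus iT hT
  haveI := hBT.1
  have hle : rangePts iT ≤ rangePts iBT := by
    rintro _ ⟨x, rfl⟩
    exact ⟨x ≫ t, (Category.assoc _ _ _).trans (congrArg (x ≫ ·) ht)⟩
  obtain ⟨B, _, iB, X, a, o, hB, hX, hprop⟩ := AGFLib.Borel.exists_borel G
  haveI := hB.1
  haveI := hB.2.1
  haveI := hprop
  obtain ⟨haff, hsmS, hconnS, -⟩ := torus_props hS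
  haveI := haff
  haveI := hsmS
  haveI := hconnS
  haveI : IsReduced S.left := isReduced_of_smooth_field S.hom
  haveI : Group.IsSolvable (PT ⟶ S) := by
    refine ⟨1, ?_⟩
    rw [derivedSeries_one, commutator_def, Subgroup.commutator_eq_bot_iff_le_centralizer]
    exact fun g _ => Subgroup.mem_centralizer_iff.mpr fun h _ => (torus_commute hS h g).eq
  haveI : Nonempty X.left := ⟨cp o⟩
  obtain ⟨c, hc⟩ := exists_restrict a j
  obtain ⟨x, hx⟩ := exists_isFixedPt X c
  haveI := hX.2.2.1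
  obtain ⟨g₁, hg₁⟩ := exists_of_mem_range (a.orbitMap o) x ((a.orbitMap o).left.surjective _)
  obtain ⟨g₂, e, he⟩ := AGFLib.Borel.conjugate iB iBT hB hBT
  haveI : IsMonHom (AGF.conjBy (g₂ * g₁⁻¹) j) := by rw [AGFLib.Borel.conjBy_eq]; infer_instance
  have hjle : rangePts (AGF.conjBy (g₂ * g₁⁻¹) j) ≤ rangePts iBT := by
    rintro _ ⟨s, rfl⟩
    have h := hx PT s
    rw [hc, ← Category.assoc, lift_whiskerRight, toUnit_unique (toUnit _) (𝟙 (𝟙_ _)), Category.id_comp, ← hg₁,
      pt_orbitMap, GrpSchLib.act_mul] at h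
    have h2 : (g₁⁻¹ * ((s ≫ j) * g₁)) ≫ a.orbitMap o = (1 : PT ⟶ G) ≫ a.orbitMap o := by
      rw [pt_orbitMap, pt_orbitMap, ← GrpSchLib.act_mul, h, GrpSchLib.act_mul, inv_mul_cancel]
    obtain ⟨z, hz⟩ := QuotProper.exists_mul_eq hX _ _ h2.symm
    rw [_root_.one_mul] at hz
    refine ⟨z ≫ e.hom, ?_⟩
    show (z ≫ e.hom) ≫ iBT = s ≫ AGF.conjBy (g₂ * g₁⁻¹) j
    rw [Category.assoc, he, AGFLib.Borel.conjBy_eq, AGFLib.Borel.conjBy_eq, ← Category.assoc, ← Category.assoc,
      comp_conjM_pt, comp_conjM_pt, hz]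
    group
  obtain ⟨g₃, -, hh⟩ := exists_conj_into_torus iBT iT hBT hT.2.2.1 hle
    (fun b hb => maxTorus_complement iBT iT hBT hT hle hb) (AGF.conjBy (g₂ * g₁⁻¹) j) hS hjle
  haveI : IsMonHom (AGF.conjBy (g₃ * (g₂ * g₁⁻¹)) j) := by rw [AGFLib.Borel.conjBy_eq]; infer_instance
  obtain ⟨φ, hφ, hφe⟩ := exists_fac_sub iT (AGF.conjBy (g₃ * (g₂ * g₁⁻¹)) j) (by
    rintro _ ⟨s, rfl⟩
    have h1 := hh _ (⟨s, rfl⟩ : s ≫ AGF.conjBy (g₂ * g₁⁻¹) j ∈ rangePts (AGF.conjBy (g₂ * g₁⁻¹) j))
    show s ≫ AGF.conjBy (g₃ * (g₂ * g₁⁻¹)) j ∈ rangePts iT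
    rw [AGFLib.Borel.conjBy_eq, ← Category.assoc, comp_conjM_pt] at h1 ⊢
    convert h1 using 1
    group)
  exact ⟨g₃ * (g₂ * g₁⁻¹), φ, hφ, hφe⟩

end Groth.Agent.HMTorus
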