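import Groth.Agent.HMTorus.Weight
import Mathlib.RingTheory.LaurentSeries

/-!
# Orders of sections along orbits of one parameter subgroups
-/

set_option autoImplicit false
set_option backward.isDefEq.respectTransparency.types false

universe u

open CategoryTheory CategoryTheory.Limits MonoidalCategory CartesianMonoidalCategory MonObj AlgebraicGeometry Opposite
open HahnSeries (single)

noncomputable section

namespace Groth.Agent.HMTorus

open GrpSchLib.AffineHopf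

variable {k : Type u} [Field k]

/-- An infinite field separates the powers. -/
theorem eq_of_forall_zpow [IsAlgClosed k] {i j : ℤ} (h : ∀ s : kˣ, s ^ i = s ^ j) : i = j := by
  by_contra hne
  have hd : (i - j).natAbs ≠ 0 := by simpa [sub_eq_zero] using hne
  haveI : NeZero (i - j).natAbs := ⟨hd⟩
  haveI : Infinite kˣ := by
    haveI : Infinite {a : k // a ≠ 0} := ((Set.finite_singleton (0 : k)).infinite_compl).to_subtype
    exact Infinite.of_injective unitsEquivNeZero.symm unitsEquivNeZero.symm.injective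
  obtain ⟨u, hu⟩ := Set.Infinite.nonempty ((Set.infinite_univ (α := kˣ)).sdiff
    (Set.finite_coe_iff.1 (inferInstanceAs (Finite (rootsOfUnity (i - j).natAbs k))) : ((rootsOfUnity (i - j).natAbs k : Set kˣ)).Finite))
  refine hu.2 ((mem_rootsOfUnity _ _).2 ?_)
  have h2 : u ^ (i - j) = 1 := by rw [zpow_sub, h, mul_inv_cancel]
  rcases Int.natAbs_eq (i - j) with h3 | h3 <;> rw [h3] at h2 <;> simpa using h2

/-- The inclusion of power series in Laurent series. -/
def emb : PowerSeries k →ₐ[k] LaurentSeries k :=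
  { HahnSeries.ofPowerSeries ℤ k with
    commutes' := fun c => by
      show HahnSeries.ofPowerSeries ℤ k _ = _
      rw [show algebraMap k (PowerSeries k) c = PowerSeries.C c from rfl, HahnSeries.ofPowerSeries_C,
        LaurentSeries.algebraMap_apply] }

theorem emb_apply (p : PowerSeries k) : emb p = HahnSeries.ofPowerSeries ℤ k p := rfl

theorem emb_injective : Function.Injective (emb (k := k)) := HahnSeries.ofPowerSeries_injective

theorem emb_coeff_neg (p : PowerSeries k) {i : ℤ} (hi : i < 0) : (emb p).coeff i = 0 := by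
  rw [emb_apply, PowerSeries.coeff_coe, if_pos hi]

theorem emb_coeff_zero (p : PowerSeries k) : (emb p).coeff 0 = PowerSeries.constantCoeff p := by
  rw [emb_apply, PowerSeries.coeff_coe, if_neg (lt_irrefl _)]; simp

/-- Monomials as a homomorphism. -/
def monoHom : Multiplicative ℤ →* LaurentSeries k where
  toFun i := single i.toAdd 1
  map_one' := rfl
  map_mul' a b := by rw [HahnSeries.single_mul_single, _root_.mul_one]; rfl

/-- The variable. -/
def zK : (LaurentSeries k)ˣ := Units.map monoHom (toUnits (Multiplicative.ofAdd (1 : ℤ)))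

theorem zK_zpow (i : ℤ) : (((zK (k := k)) ^ i : (LaurentSeries k)ˣ) : LaurentSeries k) = single i 1 := by
  rw [zK, ← map_zpow]
  show monoHom (((toUnits (Multiplicative.ofAdd (1 : ℤ))) ^ i : (Multiplicative ℤ)ˣ) : Multiplicative ℤ) = _
  rw [← map_zpow, ← ofAdd_zsmul, smul_eq_mul, _root_.mul_one]
  rfl

theorem coeff_zK_mul (a : ℤ) (p : PowerSeries k) :
    (∀ j < a, (((zK ^ a : (LaurentSeries k)ˣ) : LaurentSeries k) * emb p).coeff j = 0) ∧
      (((zK ^ a : (LaurentSeries k)ˣ) : LaurentSeries k) * emb p).coeff a = PowerSeries.constantCoeff p := by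
  refine ⟨fun j hj => ?_, ?_⟩
  · rw [zK_zpow, HahnSeries.coeff_single_mul, _root_.one_mul, emb_coeff_neg _ (by omega)]
  · rw [zK_zpow, HahnSeries.coeff_single_mul, _root_.one_mul, sub_self, emb_coeff_zero]

/-- The constant coefficient. -/
def cst : PowerSeries k →ₐ[k] k := { PowerSeries.constantCoeff with commutes' := fun c => PowerSeries.constantCoeff_C c }

theorem cst_apply (p : PowerSeries k) : cst p = PowerSeries.constantCoeff p := rfl

/-- Polynomials as power series. -/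
def coeS : Polynomial k →ₐ[k] PowerSeries k := Polynomial.aeval PowerSeries.X

theorem cst_range : (spMap (cst (k := k))).left.base (IsLocalRing.closedPoint k) = IsLocalRing.closedPoint (PowerSeries k) := by
  refine PrimeSpectrum.ext (IsLocalRing.eq_maximalIdeal ?_)
  show ((IsLocalRing.maximalIdeal k).comap (cst (k := k)).toRingHom).IsMaximal
  exact Ideal.comap_isMaximal_of_surjective _ fun c => ⟨PowerSeries.C c, PowerSeries.constantCoeff_C c⟩

theorem eq_top_of_cst {Y : Over (Spec (CommRingCat.of k))} (q : sp k (PowerSeries k) ⟶ Y) {U : Y.left.Opens}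
    (h : (spMap cst ≫ q).left ⁻¹ᵁ U = ⊤) : q.left ⁻¹ᵁ U = ⊤ := by
  refine (IsLocalRing.closed_point_mem_iff (R := PowerSeries k)).1 ?_
  rw [← cst_range]
  exact h.ge (TopologicalSpace.Opens.mem_top (IsLocalRing.closedPoint k))

variable {V X' : Over (Spec (CommRingCat.of k))}

/-- The value of a function at a point. -/
def valAt {U : X'.left.Opens} (c : Γ(X'.left, U)) {T : Over (Spec (CommRingCat.of k))} (x : T ⟶ X')
    (h : ⊤ ≤ x.left ⁻¹ᵁ U) : Γ(T.left, ⊤) :=
  x.left.appLE U ⊤ h c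

theorem valAt_comp {U : X'.left.Opens} (c : Γ(X'.left, U)) {T T' : Over (Spec (CommRingCat.of k))} (g : T' ⟶ T)
    (x : T ⟶ X') {x' : T' ⟶ X'} (e : g ≫ x = x') (h : ⊤ ≤ x.left ⁻¹ᵁ U) (h' : ⊤ ≤ x'.left ⁻¹ᵁ U) :
    valAt c x' h' = g.left.appTop (valAt c x h) := by
  subst e
  exact (congrArg (fun ψ => (ConcreteCategory.hom ψ) c)
    (Scheme.Hom.appLE_comp_appLE g.left x.left U ⊤ ⊤ h le_rfl)).symm.trans
    (congrArg (fun ψ => (ConcreteCategory.hom ψ) (valAt c x h)) (Scheme.Hom.appLE_eq_app g.left))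

theorem appTop_of_weight (π : V ⟶ X') {U : X'.left.Opens} {y : Γ(V.left, π.left ⁻¹ᵁ U)} {f : Γ(V.left, ⊤)}
    {c : Γ(X'.left, U)} {n : ℕ} (hf : GLinSh.resTop π U f = π.left.app U c * y ^ n)
    {T : Over (Spec (CommRingCat.of k))} (v : T ⟶ V) {x : T ⟶ X'} (e : v ≫ π = x)
    (h : ⊤ ≤ v.left ⁻¹ᵁ (π.left ⁻¹ᵁ U)) (h' : ⊤ ≤ x.left ⁻¹ᵁ U) :
    v.left.appTop f = valAt c x h' * HMNum.evalFn π y v h ^ n := by
  subst e
  have e1 := congrArg (v.left.appLE (π.left ⁻¹ᵁ U) ⊤ h) hf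
  rw [map_mul, map_pow] at e1
  refine Eq.trans ?_ (e1.trans (congrArg₂ (· * ·) ?_ rfl))
  · exact (congrArg (fun ψ => (ConcreteCategory.hom ψ) f) (Scheme.Hom.appLE_eq_app v.left)).symm.trans
      (congrArg (fun ψ => (ConcreteCategory.hom ψ) f) (Scheme.Hom.map_appLE v.left h (homOfLE le_top).op)).symm
  · exact (congrArg (fun ψ => (ConcreteCategory.hom ψ) c)
      ((congrArg (· ≫ v.left.appLE _ ⊤ h) (Scheme.Hom.appLE_eq_app π.left)).symm.trans
        (Scheme.Hom.appLE_comp_appLE v.left π.left U _ ⊤ le_rfl h)))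

theorem valAt_ne_zero_of_mem (π : V ⟶ X') {U : X'.left.Opens} {y : Γ(V.left, π.left ⁻¹ᵁ U)} {f : Γ(V.left, ⊤)}
    {c : Γ(X'.left, U)} {n : ℕ} (hf : GLinSh.resTop π U f = π.left.app U c * y ^ n)
    (x : 𝟙_ (Over (Spec (CommRingCat.of k))) ⟶ X') (h : ⊤ ≤ x.left ⁻¹ᵁ U)
    (hx : x.left.base (IsLocalRing.closedPoint k) ∈ GLinSh.nonvanishing π f) : valAt c x h ≠ 0 := by
  obtain ⟨p, hp, hpx⟩ := hx
  have hpU : p ∈ π.left ⁻¹ᵁ U := by
    show π.left.base p ∈ U
    rw [hpx]; exact h trivial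
  have hp' : p ∈ V.left.basicOpen (GLinSh.resTop π U f) := by
    rw [Scheme.basicOpen_res]; exact ⟨hpU, hp⟩
  rw [hf, Scheme.basicOpen_mul, ← Scheme.preimage_basicOpen] at hp'
  have hxc : x.left.base (IsLocalRing.closedPoint k) ∈ X'.left.basicOpen c := hpx ▸ hp'.1
  intro h0
  have h1 : (⊤ : (𝟙_ (Over (Spec (CommRingCat.of k)))).left.Opens) ⊓ x.left ⁻¹ᵁ X'.left.basicOpen c = ⊤ := by
    rw [HMTransLib.top_of_mem x hxc, inf_idem]
  rw [← Scheme.basicOpen_appLE x.left ⊤ U h c, show x.left.appLE U ⊤ h c = 0 from h0, Scheme.basicOpen_zero] at h1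
  exact (show IsLocalRing.closedPoint k ∈ (⊥ : (Spec (CommRingCat.of k)).Opens) from h1.ge trivial).elim

theorem mem_of_valAt_ne_zero {π : V ⟶ X'} [IsAffineHom π.left] {U : X'.left.Opens}
    {y : Γ(V.left, π.left ⁻¹ᵁ U)} (hy : GLinSh.IsFibreCoord π U y) {f : Γ(V.left, ⊤)}
    {c : Γ(X'.left, U)} {n : ℕ} (hf : GLinSh.resTop π U f = π.left.app U c * y ^ n)
    (x : 𝟙_ (Over (Spec (CommRingCat.of k))) ⟶ X') (hU : x.left ⁻¹ᵁ U = ⊤) (hx : valAt c x hU.ge ≠ 0) :
    x.left.base (IsLocalRing.closedPoint k) ∈ GLinSh.nonvanishing π f := by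
  obtain ⟨v, hv, hvU, hv1⟩ := exists_unit_pt hy x hU
  refine ⟨v.left.base (IsLocalRing.closedPoint k), ?_, by rw [← hv]; rfl⟩
  have e := appTop_of_weight π hf v hv hvU hU.ge
  rw [hv1, one_pow, _root_.mul_one] at e
  have hu : IsUnit (v.left.appTop f) := by
    rw [e]
    have h1 : gr (k := k) k ((toUnit (sp k k)).left.appTop (valAt c x hU.ge)) ≠ 0 := fun h0 => hx (by
      have h2 := congrArg (fun z => (pt1 (k := k)).left.appTop (gl (k := k) k z)) h0
      simp only [gl_gr, map_zero] at h2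
      rwa [← GmPts.appTop_comp_apply, ← Over.comp_left, pt1_toUnit] at h2)
    have h3 := ((isUnit_iff_ne_zero.2 h1).map (gl (k := k) k)).map (pt1 (k := k)).left.appTop.hom
    rw [gl_gr] at h3
    change IsUnit ((pt1 (k := k)).left.appTop ((toUnit (sp k k)).left.appTop _)) at h3
    rwa [← GmPts.appTop_comp_apply, ← Over.comp_left, pt1_toUnit] at h3
  show IsLocalRing.closedPoint k ∈ v.left ⁻¹ᵁ V.left.basicOpen f
  rw [Scheme.preimage_basicOpen_top, Scheme.basicOpen_of_isUnit _ hu]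
  trivial

variable {G : Over (Spec (CommRingCat.of k))} [GrpObj G] {a : AlgGrp.Action G X'}

/-- The generic point of an orbit in the total space. -/
def vK (B : GLinSh.LinBun G a) (l : Red.Gm (Spec (CommRingCat.of k)) ⟶ G)
    (v : 𝟙_ (Over (Spec (CommRingCat.of k))) ⟶ B.V) : sp k (LaurentSeries k) ⟶ B.V :=
  lift (upt (k := k) (zK (k := k)) ≫ l) (toUnit _ ≫ v) ≫ B.lift.act

/-- A section along an orbit of a one parameter subgroup. -/
def orbFn (B : GLinSh.LinBun G a) (l : Red.Gm (Spec (CommRingCat.of k)) ⟶ G)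
    (v : 𝟙_ (Over (Spec (CommRingCat.of k))) ⟶ B.V) (f : Γ(B.V.left, ⊤)) : LaurentSeries k :=
  gr (k := k) (LaurentSeries k) ((vK B l v).left.appTop f)

theorem orbFn_order_iff [IsAlgClosed k] [IsProper X'.hom] (B : GLinSh.LinBun G a)
    (l : Red.Gm (Spec (CommRingCat.of k)) ⟶ G) [IsMonHom l] {x y : 𝟙_ (Over (Spec (CommRingCat.of k))) ⟶ X'} {w : ℤ}
    (hlim : HMNum.IsLimitPt a l x y) (hwt : HMNum.HasFibreWeight B l y w)
    (v : 𝟙_ (Over (Spec (CommRingCat.of k))) ⟶ B.V) (hv : v ≫ B.π = x)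
    {U₀ : X'.left.Opens} {y₀ : Γ(B.V.left, B.π.left ⁻¹ᵁ U₀)} (hy₀ : y₀ ∈ B.atlas.chart U₀)
    (hU₀ : x.left ⁻¹ᵁ U₀ = ⊤) (h₀ : ⊤ ≤ v.left ⁻¹ᵁ (B.π.left ⁻¹ᵁ U₀)) (hv₀ : IsUnit (HMNum.evalFn B.π y₀ v h₀))
    {n : ℕ} {f : Γ(B.V.left, ⊤)} (hf : GLinSh.HasWeight B.atlas.chart n f) :
    (∀ j < (n : ℤ) * w, (orbFn B l v f).coeff j = 0) ∧
      (y.left.base (IsLocalRing.closedPoint k) ∈ GLinSh.nonvanishing B.π f ↔
        (orbFn B l v f).coeff ((n : ℤ) * w) ≠ 0) := by
  haveI := B.atlas.affine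
  obtain ⟨hfix, U, y₁, hy₁, hU, hw⟩ := hwt
  obtain ⟨ψ, hψ, hlim'⟩ := exists_isLimitPt a l x
  have hy : y = xPt (T := 𝟙_ _) 0 ≫ ψ := HMTransLib.isLimitPt_unique hlim hlim'
  let O := sp k (PowerSeries k)
  let K := sp k (LaurentSeries k)
  let P0 : O ⟶ X' := spMap coeS ≫ ψ
  have hP0 : spMap cst ≫ P0 = toUnit (sp k k) ≫ y := by
    rw [hy, ← Category.assoc, ← Category.assoc, comp_xPt, map_zero, spMap_comp]
    refine congrArg (· ≫ ψ) (poly_hom_ext ?_)
    rw [xPt_X, spMap_gl]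
    simp [coeS, cst_apply]
  have hUy : ∀ {T : Over (Spec (CommRingCat.of k))} (t : T ⟶ 𝟙_ _), (t ≫ y).left ⁻¹ᵁ U = ⊤ := fun t => by
    show t.left ⁻¹ᵁ (y.left ⁻¹ᵁ U) = ⊤
    rw [hU]; rfl
  have hP0U : P0.left ⁻¹ᵁ U = ⊤ := eq_top_of_cst P0 (by rw [hP0]; exact hUy _)
  let xK : K ⟶ X' := spMap emb ≫ P0
  have hxKU : xK.left ⁻¹ᵁ U = ⊤ := by
    show (spMap emb).left ⁻¹ᵁ (P0.left ⁻¹ᵁ U) = ⊤
    rw [hP0U]; rfl
  let hK : K ⟶ G := upt (k := k) (zK (k := k)) ≫ l
  have hvK : vK B l v ≫ B.π = xK := by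
    rw [vK, lift_act_π, Category.assoc, hv, ← comp_orb]
    let σ : Xo k →ₐ[k] LaurentSeries k := IsLocalization.liftAlgHom (M := Submonoid.powers (Polynomial.X : Polynomial k))
      (f := emb.comp coeS) (by
        rintro ⟨_, m, rfl⟩
        simp only [AlgHom.comp_apply, map_pow]
        refine IsUnit.pow _ ⟨zK, ?_⟩
        simp [coeS, emb_apply, zK, monoHom])
    have hσ : σ.comp (IsScalarTower.toAlgHom k (Polynomial k) (Xo k)) = emb.comp coeS := by
      refine AlgHom.ext fun q => ?_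
      simp [σ]
    have hz : Units.map σ.toRingHom.toMonoidHom uX = zK := by
      refine Units.ext ?_
      show σ (algebraMap (Polynomial k) (Xo k) Polynomial.X) = _
      refine (congrArg (fun φ : Polynomial k →ₐ[k] LaurentSeries k => φ Polynomial.X) hσ).trans ?_
      simp [coeS, emb_apply, zK, monoHom]
    rw [← hz, ← spMap_upt, Category.assoc, ← hψ, ← Category.assoc, spMap_comp, hσ, ← spMap_comp, Category.assoc]
  have hvKU : ⊤ ≤ (vK B l v).left ⁻¹ᵁ (B.π.left ⁻¹ᵁ U) := by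
    show ⊤ ≤ (vK B l v ≫ B.π).left ⁻¹ᵁ U
    rw [hvK, hxKU]
  let g : LaurentSeries k := gr (k := k) (LaurentSeries k) (HMNum.evalFn B.π y₁ (vK B l v) hvKU)
  have hg : g ≠ 0 := by
    intro hg0
    have e1 : lift hK⁻¹ (vK B l v) ≫ B.lift.act = toUnit K ≫ v := by
      rw [vK, GrpSchLib.act_mul, inv_mul_cancel, GrpSchLib.act_one]
    have e2 : lift hK⁻¹ xK ≫ a.act = toUnit K ≫ x := by
      rw [← hvK, ← lift_act_π, e1, Category.assoc, hv]
    obtain ⟨c, hc⟩ := exists_cval B hy₁ hy₀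
    have hU₀' : (toUnit K ≫ x).left ⁻¹ᵁ U₀ = ⊤ := by
      show (toUnit K).left ⁻¹ᵁ (x.left ⁻¹ᵁ U₀) = ⊤
      rw [hU₀]; rfl
    have hh : ⊤ ≤ (toUnit K ≫ v).left ⁻¹ᵁ (B.π.left ⁻¹ᵁ U₀) := by
      show ⊤ ≤ ((toUnit K ≫ v) ≫ B.π).left ⁻¹ᵁ U₀
      rw [Category.assoc, hv, hU₀']
    have := hc hK⁻¹ xK (top_le_lift hxKU (by rw [e2]; exact hU₀')) _ hvK (by rw [e1]; exact hh) hvKU
    rw [evalFn_congr B.π y₀ e1 _ hh, evalFn_comp B.π y₀ _ v h₀ hh,
      ← gl_gr (HMNum.evalFn B.π y₁ (vK B l v) hvKU), show gr (LaurentSeries k) _ = g from rfl, hg0, map_zero, mul_zero] at this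
    exact ((hv₀.map (toUnit K).left.appTop.hom).map (gr (k := k) (LaurentSeries k))).ne_zero
      ((congrArg (gr (k := k) (LaurentSeries k)) this).trans (map_zero _))
  let b : ℤ := g.order
  let h : PowerSeries k := g.powerSeriesPart
  have hgh : g = ((zK ^ b : (LaurentSeries k)ˣ) : LaurentSeries k) * emb h := by
    rw [zK_zpow]; exact (LaurentSeries.single_order_mul_powerSeriesPart g).symm
  have hh0 : PowerSeries.constantCoeff h ≠ 0 := by
    rw [← PowerSeries.coeff_zero_eq_constantCoeff_apply, LaurentSeries.powerSeriesPart_coeff, Nat.cast_zero, add_zero]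
    exact HahnSeries.coeff_order_eq_zero.not.2 hg
  obtain ⟨c, hc⟩ := exists_cval B hy₁ hy₁
  obtain ⟨v₁, hv₁, hv₁U, hv₁1⟩ := exists_unit_pt (B.atlas.coord U y₁ hy₁) y hU
  have hscale : ∀ s : kˣ, s ^ b = s ^ w := fun s => by
    let sO : (PowerSeries k)ˣ := Units.map (algebraMap k (PowerSeries k)).toMonoidHom s
    let sK : (LaurentSeries k)ˣ := Units.map (emb (k := k)).toRingHom.toMonoidHom sO
    let hO : O ⟶ G := upt (k := k) sO ≫ l
    let hk : sp k k ⟶ G := upt (k := k) s ≫ l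
    have ecst : spMap cst ≫ hO = hk := by
      rw [← Category.assoc, spMap_upt]
      refine congrArg (· ≫ l) (congrArg upt (Units.ext ?_))
      exact AlgHom.commutes cst _
    have hcl : spMap cst ≫ lift hO P0 ≫ a.act = toUnit (sp k k) ≫ y := by
      rw [← Category.assoc, comp_lift, ecst, hP0, hfix]
    have hWO : ⊤ ≤ (lift hO P0).left ⁻¹ᵁ (a.act.left ⁻¹ᵁ U ⊓ (snd G X').left ⁻¹ᵁ U) :=
      top_le_lift hP0U (eq_top_of_cst _ (by rw [hcl]; exact hUy _))
    let CO : PowerSeries k := gr (k := k) (PowerSeries k) (cval c hO P0 hWO)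
    have hCO : PowerSeries.constantCoeff CO = ((s ^ w : kˣ) : k) := by
      have hWk : ⊤ ≤ (lift hk (toUnit _ ≫ y)).left ⁻¹ᵁ (a.act.left ⁻¹ᵁ U ⊓ (snd G X').left ⁻¹ᵁ U) :=
        top_le_lift (hUy _) (by rw [hfix]; exact hUy _)
      have hv₁' : (toUnit (sp k k) ≫ v₁) ≫ B.π = toUnit _ ≫ y := by rw [Category.assoc, hv₁]
      have hsv : (lift hk (toUnit (sp k k) ≫ v₁) ≫ B.lift.act) ≫ B.π = toUnit _ ≫ y := by rw [lift_act_π, hv₁', hfix]
      have e := hc hk _ hWk _ hv₁' (HMNum.top_le_preimage B.π hU hsv) (HMNum.top_le_preimage B.π hU hv₁')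
      rw [hw _ (toUnit _) (upt s) _ hv₁' hsv, evalFn_comp B.π y₁ _ v₁ hv₁U, hv₁1, map_one, _root_.mul_one,
        _root_.mul_one, cval_comp c (spMap cst) ecst hP0 hWO hWk, ← gl_gr (cval c hO P0 hWO), spMap_gl] at e
      have e' := congrArg (gr (k := k) k) e
      rw [gr_gl, upt, GmPts.unitOfPt_ptOfUnit, ← map_zpow] at e'
      exact e'.symm.trans (gr_gl _)
    let RO : PowerSeries k →+* PowerSeries k := PowerSeries.rescale (s : k)
    have hu : IsUnit ((emb (k := k)).toRingHom.comp RO PowerSeries.X) := ⟨sK * zK, by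
      simp [RO, PowerSeries.rescale_X, sK, sO, zK, monoHom, emb_apply]⟩
    let Rh : LaurentSeries k →+* LaurentSeries k := IsLocalization.Away.lift PowerSeries.X hu
    have hRh : ∀ p : PowerSeries k, Rh (emb p) = emb (RO p) := fun p => IsLocalization.Away.lift_eq _ hu p
    let R : LaurentSeries k →ₐ[k] LaurentSeries k :=
      { Rh with commutes' := fun r => by
                  show Rh (algebraMap k (LaurentSeries k) r) = _
                  rw [← AlgHom.commutes emb r, hRh]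
                  refine congrArg emb ?_
                  ext i; simp [RO, PowerSeries.algebraMap_eq, PowerSeries.coeff_rescale, PowerSeries.coeff_C]; split_ifs with hi <;> simp [hi] }
    have hRz : Units.map R.toRingHom.toMonoidHom zK = sK * zK := by
      refine Units.ext ?_
      show Rh ((zK : (LaurentSeries k)ˣ) : LaurentSeries k) = _
      have : ((zK : (LaurentSeries k)ˣ) : LaurentSeries k) = emb PowerSeries.X := by simp [zK, monoHom, emb_apply]
      rw [this, hRh]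
      simp [RO, PowerSeries.rescale_X, sK, sO, zK, monoHom, emb_apply]
    have esK : spMap emb ≫ hO = upt (k := k) sK ≫ l := by rw [← Category.assoc, spMap_upt]
    have hRv : spMap R ≫ vK B l v = lift (upt (k := k) sK ≫ l) (vK B l v) ≫ B.lift.act := by
      conv_rhs => rw [vK, GrpSchLib.act_mul, ← MonObj.mul_comp, ← upt_mul, ← hRz, ← spMap_upt]
      rw [vK, ← Category.assoc, comp_lift, ← Category.assoc (spMap R) (toUnit _), comp_toUnit, Category.assoc]
    have hKK : lift (upt (k := k) sK ≫ l) xK = spMap emb ≫ lift hO P0 := by rw [comp_lift, esK]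
    have hWK : ⊤ ≤ (lift (upt (k := k) sK ≫ l) xK).left ⁻¹ᵁ (a.act.left ⁻¹ᵁ U ⊓ (snd G X').left ⁻¹ᵁ U) := by
      rw [hKK]
      exact (Scheme.Hom.preimage_mono _ hWO)
    have hRU : ⊤ ≤ (spMap R ≫ vK B l v).left ⁻¹ᵁ (B.π.left ⁻¹ᵁ U) := Scheme.Hom.preimage_mono (spMap R).left hvKU
    have e := hc _ xK hWK _ hvK (hRv ▸ hRU) hvKU
    rw [evalFn_congr B.π y₁ hRv.symm _ hRU, evalFn_comp B.π y₁ _ _ hvKU,
      cval_comp c (spMap emb) esK rfl hWO hWK, ← gl_gr (cval c hO P0 hWO), spMap_gl,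
      ← gl_gr (HMNum.evalFn B.π y₁ (vK B l v) hvKU), spMap_gl, ← map_mul] at e
    replace e := congrArg (gr (k := k) (LaurentSeries k)) e
    rw [gr_gl, gr_gl, show gr (LaurentSeries k) (HMNum.evalFn B.π y₁ (vK B l v) hvKU) = g from rfl, hgh] at e
    have hRzb : R ((zK ^ b : (LaurentSeries k)ˣ) : LaurentSeries k) = ((sK ^ b * zK ^ b : (LaurentSeries k)ˣ) : LaurentSeries k) := by
      rw [← mul_zpow, ← hRz, ← map_zpow]; rfl
    rw [map_mul, hRzb, Units.val_mul, show R (emb h) = emb (RO h) from hRh h, mul_right_comm,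
      show ((sK ^ b : (LaurentSeries k)ˣ) : LaurentSeries k) = emb ((sO ^ b : (PowerSeries k)ˣ) : PowerSeries k) by
        rw [← map_zpow]; rfl] at e
    have e2 : emb (((sO ^ b : (PowerSeries k)ˣ) : PowerSeries k) * RO h) = emb (CO * h) := by
      refine mul_right_cancel₀ (Units.ne_zero (zK ^ b : (LaurentSeries k)ˣ)) ?_
      rw [map_mul, map_mul, e]
      show emb CO * _ = _
      ring
    have e3 := congrArg PowerSeries.constantCoeff (emb_injective e2)
    have hb0 : PowerSeries.constantCoeff ((sO ^ b : (PowerSeries k)ˣ) : PowerSeries k) = ((s ^ b : kˣ) : k) := by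
      rw [← map_zpow]; exact PowerSeries.constantCoeff_C _
    rw [map_mul, map_mul, hb0, hCO] at e3
    have : PowerSeries.constantCoeff (RO h) = PowerSeries.constantCoeff h := by
      rw [← PowerSeries.coeff_zero_eq_constantCoeff_apply, ← PowerSeries.coeff_zero_eq_constantCoeff_apply,
        PowerSeries.coeff_rescale, pow_zero, _root_.one_mul]
    rw [this] at e3
    exact Units.ext (mul_right_cancel₀ hh0 e3)
  obtain rfl : b = w := eq_of_forall_zpow hscale
  obtain ⟨cf, hcf⟩ := hf U y₁ hy₁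
  have hfn : orbFn B l v f = ((zK ^ ((n : ℤ) * b) : (LaurentSeries k)ˣ) : LaurentSeries k) *
      emb (gr (k := k) (PowerSeries k) (valAt cf P0 hP0U.ge) * h ^ n) := by
    rw [orbFn, appTop_of_weight B.π hcf _ hvK hvKU hxKU.ge, valAt_comp cf (spMap emb) P0 rfl hP0U.ge, map_mul, map_pow,
      spMap_gr, show gr (LaurentSeries k) (HMNum.evalFn B.π y₁ (vK B l v) hvKU) = g from rfl, hgh, map_mul, map_pow,
      mul_pow, ← Units.val_pow_eq_pow_val, ← zpow_natCast, ← zpow_mul, mul_comm b]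
    ring
  rw [hfn]
  have hval : (((zK ^ ((n : ℤ) * b) : (LaurentSeries k)ˣ) : LaurentSeries k) *
      emb (gr (k := k) (PowerSeries k) (valAt cf P0 hP0U.ge) * h ^ n)).coeff ((n : ℤ) * b) ≠ 0 ↔
      valAt cf y hU.ge ≠ 0 := by
    rw [(coeff_zK_mul _ _).2, map_mul, map_pow, mul_ne_zero_iff, and_iff_left (pow_ne_zero _ hh0)]
    rw [← cst_apply, ← spMap_gr, ← valAt_comp cf (spMap cst) P0 hP0 hP0U.ge (hUy _).ge,
      valAt_comp cf (toUnit (sp k k)) y rfl hU.ge]
    refine not_congr ⟨fun h0 => ?_, fun h0 => by rw [h0, map_zero, map_zero]⟩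
    have h1 := congrArg (gl (k := k) k) h0
    rw [gl_gr, map_zero] at h1
    have h2 := congrArg (pt1 (k := k)).left.appTop h1
    rw [map_zero, ← GmPts.appTop_comp_apply, ← Over.comp_left, pt1_toUnit] at h2
    exact h2
  refine ⟨(coeff_zK_mul _ _).1, ⟨fun hyf => hval.2 (valAt_ne_zero_of_mem B.π hcf y hU.ge hyf),
    fun hne => mem_of_valAt_ne_zero (B.atlas.coord U y₁ hy₁) hcf y hU (hval.1 hne)⟩⟩

theorem orbFn_order [IsAlgClosed k] [IsProper X'.hom] (B : GLinSh.LinBun G a)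
    (l : Red.Gm (Spec (CommRingCat.of k)) ⟶ G) [IsMonHom l] {x y : 𝟙_ (Over (Spec (CommRingCat.of k))) ⟶ X'} {w : ℤ}
    (hlim : HMNum.IsLimitPt a l x y) (hwt : HMNum.HasFibreWeight B l y w)
    (v : 𝟙_ (Over (Spec (CommRingCat.of k))) ⟶ B.V) (hv : v ≫ B.π = x)
    {U₀ : X'.left.Opens} {y₀ : Γ(B.V.left, B.π.left ⁻¹ᵁ U₀)} (hy₀ : y₀ ∈ B.atlas.chart U₀)
    (hU₀ : x.left ⁻¹ᵁ U₀ = ⊤) (h₀ : ⊤ ≤ v.left ⁻¹ᵁ (B.π.left ⁻¹ᵁ U₀)) (hv₀ : IsUnit (HMNum.evalFn B.π y₀ v h₀))
    {n : ℕ} {f : Γ(B.V.left, ⊤)} (hf : GLinSh.HasWeight B.atlas.chart n f) :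
    (∀ j < (n : ℤ) * w, (orbFn B l v f).coeff j = 0) ∧
      (y.left.base (IsLocalRing.closedPoint k) ∈ GLinSh.nonvanishing B.π f →
        (orbFn B l v f).coeff ((n : ℤ) * w) ≠ 0) := by
  haveI := B.atlas.affine
  exact ⟨(orbFn_order_iff B l hlim hwt v hv hy₀ hU₀ h₀ hv₀ hf).1, (orbFn_order_iff B l hlim hwt v hv hy₀ hU₀ h₀ hv₀ hf).2.1⟩

end Groth.Agent.HMTorus
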