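import Groth.Agent.HMTorus.Coef

/-!
# The numerical function of a torus is a maximum of linear forms
-/

set_option autoImplicit false
set_option backward.isDefEq.respectTransparency.types false

universe u

open CategoryTheory CategoryTheory.Limits MonoidalCategory CartesianMonoidalCategory MonObj AlgebraicGeometry Opposite

noncomputable section

namespace Groth.Agent.HMTorus

open GrpSchLib.AffineHopf

variable {k : Type u} [Field k] [IsAlgClosed k]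
variable {n : ℕ} {T : Over (Spec (CommRingCat.of k))} [GrpObj T] (e : sp k (MonoidAlgebra k (Lat' n)) ≅ T)
  [he : IsMonHom e.hom] {X' G : Over (Spec (CommRingCat.of k))} [GrpObj G] [IsProper X'.hom]
  {a : AlgGrp.Action G X'} (B : GLinSh.LinBun G a) (i : T ⟶ G) [IsMonHom i]

omit he [IsMonHom i] [IsAlgClosed k] in
theorem exists_isMu (l : Red.Gm (Spec (CommRingCat.of k)) ⟶ G) [IsMonHom l]
    (x : 𝟙_ (Over (Spec (CommRingCat.of k))) ⟶ X') : ∃ m, HMNum.IsMu B l x m := by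
  obtain ⟨ψ, -, h⟩ := exists_isLimitPt a l x
  obtain ⟨w, hw⟩ := exists_hasFibreWeight B l _ (HMTransLib.isFixedBy_of_isLimitPt h)
  exact ⟨-w, _, h, by rwa [neg_neg]⟩

omit [IsProper X'.hom] [IsAlgClosed k] in
theorem isUnit_evalFn_transl (g : 𝟙_ (Over (Spec (CommRingCat.of k))) ⟶ G)
    (v : 𝟙_ (Over (Spec (CommRingCat.of k))) ⟶ B.V)
    {U₀ U₁ : X'.left.Opens} {y₀ : Γ(B.V.left, B.π.left ⁻¹ᵁ U₀)} {y₁ : Γ(B.V.left, B.π.left ⁻¹ᵁ U₁)}
    (hy₀ : y₀ ∈ B.atlas.chart U₀) (hy₁ : y₁ ∈ B.atlas.chart U₁) (hU₀ : (v ≫ B.π).left ⁻¹ᵁ U₀ = ⊤)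
    (hU₁ : (lift g (v ≫ B.π) ≫ a.act).left ⁻¹ᵁ U₁ = ⊤) (h₀ : ⊤ ≤ v.left ⁻¹ᵁ (B.π.left ⁻¹ᵁ U₀))
    (hv : IsUnit (HMNum.evalFn B.π y₀ v h₀)) (h₁ : ⊤ ≤ (lift g v ≫ B.lift.act).left ⁻¹ᵁ (B.π.left ⁻¹ᵁ U₁)) :
    IsUnit (HMNum.evalFn B.π y₁ (lift g v ≫ B.lift.act) h₁) := by
  obtain ⟨c, hc⟩ := exists_cval B hy₁ hy₀
  have e1 : lift g⁻¹ (lift g v ≫ B.lift.act) ≫ B.lift.act = v := by
    rw [GrpSchLib.act_mul, inv_mul_cancel, GrpSchLib.act_one]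
  have e2 : lift g⁻¹ (lift g (v ≫ B.π) ≫ a.act) ≫ a.act = v ≫ B.π := by
    rw [GrpSchLib.act_mul, inv_mul_cancel, GrpSchLib.act_one]
  have h := hc g⁻¹ _ (top_le_lift hU₁ (by rw [e2]; exact hU₀)) _ (lift_act_π B g v) (by rw [e1]; exact h₀) h₁
  rw [evalFn_congr B.π y₀ e1 _ h₀] at h
  exact isUnit_of_mul_isUnit_right (h ▸ hv)

include he in
/-- The numerical function on a torus is a maximum of finitely many linear forms. -/
theorem isMu_iff_max (hB : HMNum.AmpleCover B) :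
    ∃ (J : Type u) (_ : Fintype J) (ch : J → (Fin n → ℤ)) (N : J → ℕ),
      ∀ x : 𝟙_ (Over (Spec (CommRingCat.of k))) ⟶ X', ∃ I : Finset J,
        ∀ (l : Red.Gm (Spec (CommRingCat.of k)) ⟶ T) (ε : (Fin n → ℤ) → ℤ), IsExp e l ε →
          ∀ [IsMonHom (l ≫ i)] (m : ℤ), HMNum.IsMu B (l ≫ i) x m ↔
            ∃ j ∈ I, (m : ℚ) = -(ε (ch j) : ℚ) / (N j : ℚ) ∧
              ∀ j' ∈ I, -(ε (ch j') : ℚ) / (N j' : ℚ) ≤ -(ε (ch j) : ℚ) / (N j : ℚ) := by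
  classical
  haveI := B.atlas.affine
  obtain ⟨hcomp, hcov⟩ := hB
  haveI := hcomp
  choose N f hN hf hmem U hU hUa using hcov
  obtain ⟨s, hs⟩ := (CompactSpace.isCompact_univ (X := X'.left)).elim_finite_subcover
    (fun p : X'.left => ((U p : X'.left.Opens) : Set X'.left)) (fun p => (U p).2)
    (fun p _ => Set.mem_iUnion.2 ⟨p, by rw [hU p]; exact hmem p⟩)
  choose Λ hΛ using fun p : s => exists_bound e B i (f p.1)
  refine ⟨ULift.{u} (Σ p : s, Λ p), inferInstance, fun j => (j.down.2 : Lat' n).toAdd, fun j => N j.down.1.1, fun x => ?_⟩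
  obtain ⟨U₀, hxU₀, y₀, hy₀⟩ := B.atlas.cover (x.left.base (IsLocalRing.closedPoint k))
  have hU₀ := HMTransLib.top_of_mem x hxU₀
  obtain ⟨v, hv, hvU, hv1⟩ := exists_unit_pt (B.atlas.coord U₀ y₀ hy₀) x hU₀
  let I : Finset (ULift.{u} (Σ p : s, Λ p)) := Finset.univ.filter fun j => (chExp e B i v (f j.down.1.1)).coeff (j.down.2 : Lat' n) ≠ 0
  have hmax : ∀ (l : Red.Gm (Spec (CommRingCat.of k)) ⟶ T) (ε : (Fin n → ℤ) → ℤ), IsExp e l ε → ∀ [IsMonHom (l ≫ i)] (m : ℤ),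
      HMNum.IsMu B (l ≫ i) x m →
        (∀ j ∈ I, -(ε (j.down.2 : Lat' n).toAdd : ℚ) / (N j.down.1.1 : ℚ) ≤ m) ∧
          ∃ j ∈ I, -(ε (j.down.2 : Lat' n).toAdd : ℚ) / (N j.down.1.1 : ℚ) = m := fun l ε hl _ m hm => by
    have hNpos : ∀ p : s, (0 : ℚ) < N p.1 := fun p => Nat.cast_pos.2 (hN p.1)
    have hlow : ∀ (p : s), ∀ j < (N p.1 : ℤ) * (-m), ∀ χ ∈ (Λ p).filter (fun χ => ε χ.toAdd = j),
        (chExp e B i v (f p.1)).coeff χ = 0 := fun p j hj => by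
      refine eq_zero_of_forall_sum _ _ fun φ => ?_
      let g : 𝟙_ (Over (Spec (CommRingCat.of k))) ⟶ G := (pt1 ≫ pt e φ) ≫ i
      have hl' : l ≫ i = (toUnit _ ≫ g) * (l ≫ i) * (toUnit _ ≫ g)⁻¹ := by
        rw [eq_mul_inv_iff_mul_eq, show toUnit (Red.Gm (Spec (CommRingCat.of k))) ≫ g = (toUnit _ ≫ pt1 ≫ pt e φ) ≫ i by
          simp only [g, Category.assoc], ← MonObj.mul_comp, ← MonObj.mul_comp, const_comm e]
      obtain ⟨y, hlim, hwt⟩ := (HMTransLib.isMu_transl_iff B g hl').2 hm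
      have hvg : (lift g v ≫ B.lift.act) ≫ B.π = lift g x ≫ a.act := by rw [lift_act_π, hv]
      obtain ⟨U₁, hxU₁, y₁, hy₁⟩ := B.atlas.cover ((lift g x ≫ a.act).left.base (IsLocalRing.closedPoint k))
      have hU₁ := HMTransLib.top_of_mem _ hxU₁
      have h₁ : ⊤ ≤ (lift g v ≫ B.lift.act).left ⁻¹ᵁ (B.π.left ⁻¹ᵁ U₁) := by
        show ⊤ ≤ ((lift g v ≫ B.lift.act) ≫ B.π).left ⁻¹ᵁ U₁
        rw [hvg, hU₁]
      have hu := isUnit_evalFn_transl B g v hy₀ hy₁ (by rw [hv]; exact hU₀) (by rw [hv]; exact hU₁) hvU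
        (by rw [hv1]; exact isUnit_one) h₁
      have hord := (orbFn_order B (l ≫ i) hlim hwt _ hvg hy₁ hU₁ h₁ hu (hf p.1)).1 j hj
      rw [coeff_orbFn e B i hl _ _ (Λ p) (hΛ p _)] at hord
      rw [← hord]
      refine Finset.sum_congr rfl fun χ _ => ?_
      rw [chExp_transl, _root_.mul_comm]
    refine ⟨fun j hj => ?_, ?_⟩
    · rw [div_le_iff₀ (hNpos j.down.1)]
      by_contra hlt
      refine (Finset.mem_filter.1 hj).2 (hlow j.down.1 (ε (j.down.2 : Lat' n).toAdd) ?_ _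
        (Finset.mem_filter.2 ⟨j.down.2.2, rfl⟩))
      have : ((ε (j.down.2 : Lat' n).toAdd : ℤ) : ℚ) < (((N j.down.1.1 : ℤ) * (-m) : ℤ) : ℚ) := by
        push_cast; linarith [not_le.1 hlt]
      exact_mod_cast this
    · obtain ⟨y, hlim, hwt⟩ := hm
      obtain ⟨p, hp, hpy⟩ := Set.mem_iUnion₂.1 (hs (Set.mem_univ (y.left.base (IsLocalRing.closedPoint k))))
      have hord := (orbFn_order B (l ≫ i) hlim hwt v hv hy₀ hU₀ hvU (by rw [hv1]; exact isUnit_one) (hf p)).2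
        (by rw [← hU p]; exact hpy)
      rw [coeff_orbFn e B i hl v _ (Λ ⟨p, hp⟩) (hΛ ⟨p, hp⟩ v)] at hord
      obtain ⟨χ, hχ, hne⟩ := Finset.exists_ne_zero_of_sum_ne_zero hord
      refine ⟨⟨⟨⟨p, hp⟩, χ, (Finset.mem_filter.1 hχ).1⟩⟩, Finset.mem_filter.2 ⟨Finset.mem_univ _, hne⟩, ?_⟩
      show -(ε χ.toAdd : ℚ) / (N p : ℚ) = m
      rw [(Finset.mem_filter.1 hχ).2]
      have := hNpos ⟨p, hp⟩
      field_simp
      push_cast
      ring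
  refine ⟨I, fun l ε hl _ m => ⟨fun hm => ?_, ?_⟩⟩
  · obtain ⟨h1, j, hj, he'⟩ := hmax l ε hl m hm
    exact ⟨j, hj, he'.symm, fun j' hj' => (h1 j' hj').trans he'.ge⟩
  · rintro ⟨j, hj, hjm, hjmax⟩
    obtain ⟨m', hm'⟩ := exists_isMu B (l ≫ i) x
    obtain ⟨h1, j', hj', he'⟩ := hmax l ε hl m' hm'
    have : (m : ℚ) = m' := le_antisymm (hjm ▸ h1 j hj) (he' ▸ hjm ▸ hjmax j' hj')
    rwa [show m = m' by exact_mod_cast this]

end Groth.Agent.HMTorus
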