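import Groth.Agent.HMTorus.Pts
import Groth.Agent.HMTransLib.Limit
import Groth.Agent.H23.RatExtend
import Mathlib.AlgebraicGeometry.Properties

/-!
# The affine line and the extension of orbits
-/

set_option autoImplicit false
set_option backward.isDefEq.respectTransparency.types false

universe u

open CategoryTheory CategoryTheory.Limits MonoidalCategory CartesianMonoidalCategory MonObj AlgebraicGeometry
open Polynomial (X)

noncomputable section

namespace Groth.Agent.HMTorus

open GrpSchLib.AffineHopf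

variable {k : Type u} [Field k]

/-- The constants on a scheme over the field. -/
def sc (T : Over (Spec (CommRingCat.of k))) : k →+* Γ(T.left, ⊤) :=
  T.hom.appTop.hom.comp (Scheme.ΓSpecIso (CommRingCat.of k)).inv.hom

theorem comp_sc {T T' : Over (Spec (CommRingCat.of k))} (g : T' ⟶ T) (c : k) : g.left.appTop (sc T c) = sc T' c :=
  (GmPts.appTop_comp_apply g.left T.hom _).symm.trans (congrArg (fun m => Scheme.Hom.appTop m _) (Over.w g))

theorem sc_sp (C : Type u) [CommRing C] [Algebra k C] (c : k) : sc (sp k C) c = gl C (algebraMap k C c) :=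
  (congrArg (fun ψ => (ConcreteCategory.hom ψ) c) (Scheme.ΓSpecIso_inv_naturality (CommRingCat.ofHom (algebraMap k C)))).symm

theorem gr_sc (C : Type u) [CommRing C] [Algebra k C] (c : k) : gr C (sc (sp k C) c) = algebraMap k C c := by
  rw [sc_sp, gr_gl]

variable {C : Type u} [CommRing C] [Algebra k C]

/-- The morphism to an affine scheme given by a ring map. -/
def toSp {T : Over (Spec (CommRingCat.of k))} (φ : C →+* Γ(T.left, ⊤)) (hφ : ∀ c, φ (algebraMap k C c) = sc T c) :
    T ⟶ sp k C :=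
  Over.homMk (T.left.toSpecΓ ≫ Spec.map (CommRingCat.ofHom φ)) (by
    refine ext_of_isAffine ?_
    refine CommRingCat.hom_ext (RingHom.ext fun z => ?_)
    obtain ⟨c, rfl⟩ : ∃ c, (Scheme.ΓSpecIso (CommRingCat.of k)).inv c = z :=
      ⟨_, congrArg (fun r => r z) (congrArg CommRingCat.Hom.hom (Scheme.ΓSpecIso (CommRingCat.of k)).hom_inv_id)⟩
    refine (GmPts.appTop_comp_apply (T.left.toSpecΓ ≫ Spec.map (CommRingCat.ofHom φ)) _ _).trans ?_
    show Scheme.Hom.appTop (T.left.toSpecΓ ≫ Spec.map (CommRingCat.ofHom φ)) (sc (sp k C) c) = sc T c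
    rw [sc_sp, GmPts.appTop_comp_apply]
    refine (congrArg (T.left.toSpecΓ.appTop)
      (congrArg (fun ψ => (ConcreteCategory.hom ψ) (algebraMap k C c)) (Scheme.ΓSpecIso_inv_naturality (CommRingCat.ofHom φ)).symm)).trans ?_
    rw [Scheme.toSpecΓ_appTop]
    exact (congrArg (fun r => r (φ (algebraMap k C c)))
      (congrArg CommRingCat.Hom.hom (Scheme.ΓSpecIso Γ(T.left, ⊤)).inv_hom_id)).trans (hφ c))

theorem toSp_gl {T : Over (Spec (CommRingCat.of k))} (φ : C →+* Γ(T.left, ⊤)) (hφ : ∀ c, φ (algebraMap k C c) = sc T c)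
    (z : C) : (toSp φ hφ).left.appTop (gl C z) = φ z := by
  refine (GmPts.appTop_comp_apply T.left.toSpecΓ (Spec.map (CommRingCat.ofHom φ)) _).trans ?_
  refine (congrArg (T.left.toSpecΓ.appTop)
    (congrArg (fun ψ => (ConcreteCategory.hom ψ) z) (Scheme.ΓSpecIso_inv_naturality (CommRingCat.ofHom φ)).symm)).trans ?_
  rw [Scheme.toSpecΓ_appTop]
  exact congrArg (fun r => r (φ z)) (congrArg CommRingCat.Hom.hom (Scheme.ΓSpecIso Γ(T.left, ⊤)).inv_hom_id)

theorem sp_hom_ext {T : Over (Spec (CommRingCat.of k))} {p q : T ⟶ sp k C}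
    (h : ∀ z : C, p.left.appTop (gl C z) = q.left.appTop (gl C z)) : p = q := by
  haveI : IsAffine (sp k C).left := inferInstanceAs (IsAffine (Spec (CommRingCat.of C)))
  refine Over.OverMorphism.ext (ext_of_isAffine (CommRingCat.hom_ext (RingHom.ext fun w => ?_)))
  rw [← gl_gr (k := k) w]
  exact h _

theorem poly_hom_ext {T : Over (Spec (CommRingCat.of k))} {p q : T ⟶ sp k (Polynomial k)}
    (h : p.left.appTop (gl _ (X : Polynomial k)) = q.left.appTop (gl _ (X : Polynomial k))) : p = q := by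
  refine sp_hom_ext fun z => ?_
  have : (p.left.appTop.hom.comp (gl (k := k) (Polynomial k))) = q.left.appTop.hom.comp (gl (k := k) (Polynomial k)) := by
    refine Polynomial.ringHom_ext (fun c => ?_) h
    show p.left.appTop (gl _ (algebraMap k (Polynomial k) c)) = q.left.appTop (gl _ (algebraMap k (Polynomial k) c))
    rw [← sc_sp, comp_sc, comp_sc]
  exact RingHom.congr_fun this z

/-- The point of the affine line spectrum given by a function. -/
def xPt {T : Over (Spec (CommRingCat.of k))} (r : Γ(T.left, ⊤)) : T ⟶ sp k (Polynomial k) :=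
  toSp (Polynomial.eval₂RingHom (sc T) r) fun c => by simp

theorem xPt_X {T : Over (Spec (CommRingCat.of k))} (r : Γ(T.left, ⊤)) :
    (xPt r).left.appTop (gl _ (X : Polynomial k)) = r := by
  rw [xPt, toSp_gl]; simp

theorem comp_xPt {T T' : Over (Spec (CommRingCat.of k))} (g : T' ⟶ T) (r : Γ(T.left, ⊤)) :
    g ≫ xPt r = xPt (g.left.appTop r) := by
  refine poly_hom_ext ?_
  rw [xPt_X]
  exact (GmPts.appTop_comp_apply g.left (xPt r).left _).trans (congrArg g.left.appTop (xPt_X r))

/-- The coordinate ring of the affine line over the integers. -/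
abbrev CoordA : Type u := MonoidAlgebra (ULift.{u} ℤ) (Multiplicative ↥HMNum.plus)

/-- The coordinate of the affine line. -/
def aGen : CoordA.{u} :=
  MonoidAlgebra.single (Multiplicative.ofAdd (⟨1, (HMNum.mem_plus_iff 1).2 zero_le_one⟩ : ↥HMNum.plus)) 1

variable {S : Scheme.{u}}

/-- The value of the coordinate at a point of the affine line. -/
def a1Fn {T : Over S} (t : T ⟶ HMNum.A1 S) : Γ(T.left, ⊤) :=
  (t.left ≫ pullback.fst (Magnet.AMon (ULift.{u} ℤ) ↥HMNum.plus).hom (GmPts.toBaseZ S)).appTop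
    ((Scheme.ΓSpecIso (CommRingCat.of CoordA.{u})).inv aGen)

theorem a1Fn_comp {T T' : Over S} (g : T' ⟶ T) (t : T ⟶ HMNum.A1 S) : a1Fn (g ≫ t) = g.left.appTop (a1Fn t) := by
  rw [a1Fn, Over.comp_left, Category.assoc, GmPts.appTop_comp_apply]; rfl

theorem a1Fn_incl {T : Over S} (p : T ⟶ Red.Gm S) :
    a1Fn (p ≫ HMNum.incl S) = (GmPts.unitOfPt p : Γ(T.left, ⊤)) := by
  rw [GmPts.val_unitOfPt, ← GmPts.ringHomOfPt_tPow_one, a1Fn]
  have hh : (p ≫ HMNum.incl S).left ≫ pullback.fst (Magnet.AMon (ULift.{u} ℤ) ↥HMNum.plus).hom (GmPts.toBaseZ S) =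
      GmPts.specPt p ≫ (Magnet.AMon.map (ULift.{u} ℤ) HMNum.plus.subtype).left := by
    refine (Category.assoc _ _ _).trans ?_
    refine (congrArg (p.left ≫ ·) (GmPts.pullback_map_left_fst (Magnet.AMon.map (ULift.{u} ℤ) HMNum.plus.subtype))).trans ?_
    exact (Category.assoc _ _ _).symm
  rw [hh, GmPts.appTop_comp_apply]
  refine congrArg (GmPts.specPt p).appTop ?_
  rw [Magnet.AMon.map_eq_pt]
  refine ((congrArg (fun ψ => (ConcreteCategory.hom ψ) (aGen.{u})) (Scheme.ΓSpecIso_inv_naturality (CommRingCat.ofHom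
    (MonoidAlgebra.mapDomainBialgHom (ULift.{u} ℤ) (AddMonoidHom.toMultiplicative HMNum.plus.subtype)).toAlgHom.toRingHom))).symm).trans ?_
  show (Scheme.ΓSpecIso (CommRingCat.of (MonoidAlgebra (ULift.{u} ℤ) (Multiplicative ℤ)))).inv (MonoidAlgebra.mapDomainBialgHom (ULift.{u} ℤ) (AddMonoidHom.toMultiplicative HMNum.plus.subtype) aGen) = _
  rw [aGen, MonoidAlgebra.mapDomainBialgHom_single]
  rfl

theorem a1Fn_one {T : Over S} : a1Fn (toUnit T ≫ η[HMNum.A1 S]) = 1 := by
  rw [← MonObj.one_comp (HMNum.incl S) |>.trans (Hom.one_def (X := T) (M := HMNum.A1 S)), a1Fn_incl, GmPts.unitOfPt_one,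
    Units.val_one]

theorem a1Fn_origin {T : Over S} : a1Fn (toUnit T ≫ HMNum.origin S) = 0 := by
  rw [a1Fn_comp, HMNum.origin, a1Fn_comp]
  have hh : a1Fn (Magnet.AMonS.faceMap S HMNum.isFace_bot) = 0 := by
    rw [a1Fn]
    have e : (Magnet.AMonS.faceMap S HMNum.isFace_bot).left ≫
        pullback.fst (Magnet.AMon (ULift.{u} ℤ) ↥HMNum.plus).hom (GmPts.toBaseZ S) =
        pullback.fst (Magnet.AMon (ULift.{u} ℤ) ↥(⊥ : AddSubmonoid ℤ)).hom (GmPts.toBaseZ S) ≫
          (Magnet.AMon.faceMap (ULift.{u} ℤ) HMNum.isFace_bot).left :=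
      GmPts.pullback_map_left_fst _
    rw [e, GmPts.appTop_comp_apply, Magnet.AMon.faceMap_left]
    refine (congrArg _ (congrArg (fun ψ => (ConcreteCategory.hom ψ) (aGen.{u})) (Scheme.ΓSpecIso_inv_naturality (CommRingCat.ofHom
      (Magnet.faceAlgHom (ULift.{u} ℤ) HMNum.isFace_bot).toRingHom))).symm).trans ?_
    show Scheme.Hom.appTop (pullback.fst (Magnet.AMon (ULift.{u} ℤ) ↥(⊥ : AddSubmonoid ℤ)).hom (GmPts.toBaseZ S)) ((Scheme.ΓSpecIso _).inv (Magnet.faceAlgHom (ULift.{u} ℤ) HMNum.isFace_bot aGen)) = 0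
    rw [aGen, Magnet.faceAlgHom_single_of_not_mem _ _ _ (fun h => one_ne_zero (AddSubmonoid.mem_bot.1 h)), map_zero]
    exact map_zero _
  rw [hh, map_zero, map_zero]

/-- The comparison of the affine lines. -/
def toX (T : Over (Spec (CommRingCat.of k))) (b : T ⟶ HMNum.A1 (Spec (CommRingCat.of k))) : T ⟶ sp k (Polynomial k) :=
  xPt (a1Fn b)

theorem comp_toX {T T' : Over (Spec (CommRingCat.of k))} (g : T' ⟶ T) (b : T ⟶ HMNum.A1 (Spec (CommRingCat.of k))) :
    g ≫ toX T b = toX T' (g ≫ b) := by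
  rw [toX, toX, comp_xPt, a1Fn_comp]

/-- The punctured affine line. -/
abbrev Xo (k : Type u) [Field k] : Type u := Localization.Away (X : Polynomial k)

/-- The coordinate on the punctured affine line. -/
def uX : (Xo k)ˣ := (IsLocalization.Away.algebraMap_isUnit (S := Xo k) (X : Polynomial k)).unit

/-- Morphisms from the multiplicative group to proper schemes extend to the affine line. -/
theorem exists_extend {Y : Over (Spec (CommRingCat.of k))} [IsProper Y.hom]
    (o : Red.Gm (Spec (CommRingCat.of k)) ⟶ Y) :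
    ∃ ψ : sp k (Polynomial k) ⟶ Y,
      spMap (IsScalarTower.toAlgHom k (Polynomial k) (Xo k)) ≫ ψ = upt uX ≫ o := by
  haveI : IsDomain (Xo k) := IsLocalization.isDomain_localization
    (powers_le_nonZeroDivisors_of_noZeroDivisors (Polynomial.X_ne_zero (R := k)))
  let P := Spec (CommRingCat.of (Polynomial k))
  let U := Spec (CommRingCat.of (Xo k))
  let io : U ⟶ P := Spec.map (CommRingCat.ofHom (algebraMap (Polynomial k) (Xo k)))
  haveI : IsOpenImmersion io := IsOpenImmersion.of_isLocalization (X : Polynomial k)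
  haveI : Y.left.IsSeparated := ⟨by
    rw [← terminal.comp_from Y.hom]
    infer_instance⟩
  let o' : U ⟶ Y.left := (upt (k := k) uX ≫ o).left
  have ho : o' ≫ Y.hom = io ≫ (sp k (Polynomial k)).hom :=
    (Over.w (upt (k := k) uX ≫ o)).trans (Over.w (spMap (IsScalarTower.toAlgHom k (Polynomial k) (Xo k)))).symm
  let sP : P ⟶ Spec (CommRingCat.of k) := (sp k (Polynomial k)).hom
  let ξ := genericPoint U
  have hξ : io ξ = genericPoint P := genericPoint_eq_of_isOpenImmersion io
  let σ : Spec (P.presheaf.stalk (genericPoint P)) ⟶ U :=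
    Spec.map (P.presheaf.stalkCongr (.of_eq hξ)).hom ≫ Spec.map (CategoryTheory.inv (io.stalkMap ξ)) ≫ U.fromSpecStalk ξ
  have hσ : σ ≫ io = P.fromSpecStalk (genericPoint P) := by
    simp only [σ, Category.assoc]
    rw [← Scheme.SpecMap_stalkMap_fromSpecStalk, ← Category.assoc (Spec.map (CategoryTheory.inv (io.stalkMap ξ))), ← Spec.map_comp,
      IsIso.hom_inv_id, Spec.map_id, Category.id_comp]
    exact Scheme.SpecMap_stalkSpecializes_fromSpecStalk (hξ ▸ specializes_rfl)
  have ho' : (σ ≫ o') ≫ Y.hom = P.fromSpecStalk (genericPoint P) ≫ sP :=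
    (Category.assoc _ _ _).trans ((congrArg (σ ≫ ·) ho).trans ((Category.assoc _ _ _).symm.trans (congrArg (· ≫ sP) hσ)))
  obtain ⟨W, hg, H, hW, hH, hH₀⟩ := Agent.H23.RatExtend.extend (P := P) sP Y.hom (σ ≫ o') ho' Set.univ fun p _ => by
      refine Agent.H23.RatExtend.exists_lift (P := P) sP Y.hom (σ ≫ o') ho' p ?_
      haveI : ValuationRing (Localization.AtPrime (p : PrimeSpectrum (Polynomial k)).asIdeal) :=
        Agent.H23.RatExtend.valuationRing_atPrime _
      haveI : IsDomain (Localization.AtPrime (p : PrimeSpectrum (Polynomial k)).asIdeal) :=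
        IsLocalization.isDomain_localization (Ideal.primeCompl_le_nonZeroDivisors _)
      let e : Localization.AtPrime (p : PrimeSpectrum (Polynomial k)).asIdeal ≃+* P.presheaf.stalk p :=
        (StructureSheaf.stalkIso (Polynomial k) p).toRingEquiv
      haveI : IsDomain (P.presheaf.stalk p) := e.symm.injective.isDomain e.symm.toRingHom
      exact Agent.H23.RatExtend.valuationRing_of_ringEquiv e
  obtain rfl : W = ⊤ := top_le_iff.1 fun p _ => hW (Set.mem_univ p)
  let ψ : P ⟶ Y.left := P.topIso.inv ≫ H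
  have hψ : ψ ≫ Y.hom = (sp k (Polynomial k)).hom := by
    rw [Category.assoc, hH, ← Category.assoc, ← Scheme.topIso_hom P, Iso.inv_hom_id, Category.id_comp]
  refine ⟨Over.homMk ψ hψ, Over.OverMorphism.ext ?_⟩
  show io ≫ ψ = o'
  haveI : IsSeparated Y.hom := inferInstance
  haveI : IsReduced U := inferInstance
  haveI : IsDominant σ := by
    refine ⟨dense_iff_closure_eq.mpr (top_le_iff.1 ?_)⟩
    have : ξ ∈ Set.range σ := ⟨IsLocalRing.closedPoint _, by
      apply io.isOpenEmbedding.injective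
      rw [← Scheme.Hom.comp_apply, hσ, Scheme.fromSpecStalk_closedPoint, hξ]⟩
    exact (ge_of_eq (genericPoint_spec U : closure {ξ} = Set.univ)).trans (closure_mono (Set.singleton_subset_iff.2 this))
  refine ext_of_isDominant σ ?_
  rw [← Category.assoc, hσ, ← hH₀, ← Category.assoc]
  congr 1
  rw [Iso.comp_inv_eq, Scheme.topIso_hom, Scheme.Opens.fromSpecStalkOfMem_ι]

end Groth.Agent.HMTorus
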