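/-
A linear functional on a lattice is bounded by a positive definite quadratic form.
-/
import Mathlib.Algebra.QuadraticDiscriminant
import Mathlib.LinearAlgebra.Dual.Lemmas
import Mathlib.RingTheory.Finiteness.Basic
import Mathlib.RingTheory.Localization.Integer
import Mathlib.RingTheory.Localization.FractionRing

namespace Groth.Agent.HMTorus

theorem exists_sq_bound {L : Type*} [AddCommGroup L] [Module.Finite ℤ L] (b : L → L → ℚ)
    (hadd : ∀ x y z, b (x + y) z = b x z + b y z) (hsymm : ∀ x y, b x y = b y x)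
    (hpos : ∀ x, x ≠ 0 → 0 < b x x) (ℓ : L →+ ℚ) :
    ∃ K : ℚ, 0 ≤ K ∧ ∀ x, ℓ x ^ 2 ≤ K * b x x := by
  classical
  obtain ⟨n, g, hg⟩ := Module.Finite.exists_fin (R := ℤ) (M := L)
  let bl : L → (L →+ ℚ) := fun z => AddMonoidHom.mk' (fun x => b x z) fun x y => hadd x y z
  let br : L → (L →+ ℚ) := fun x => AddMonoidHom.mk' (fun z => b x z) fun y z => by
    show b x (y + z) = b x y + b x z
    rw [hsymm, hadd, hsymm y, hsymm z]
  let B : (Fin n → ℚ) →ₗ[ℚ] (Fin n → ℚ) →ₗ[ℚ] ℚ :=
    LinearMap.mk₂ ℚ (fun c d => ∑ i, ∑ j, c i * d j * b (g i) (g j))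
      (fun c c' d => by simp [add_mul, Finset.sum_add_distrib])
      (fun r c d => by simp [Finset.mul_sum, mul_assoc])
      (fun c d d' => by simp [mul_add, add_mul, Finset.sum_add_distrib])
      (fun r c d => by simp [Finset.mul_sum, mul_assoc, mul_left_comm])
  let f : (Fin n → ℚ) →ₗ[ℚ] ℚ := ∑ i, ℓ (g i) • LinearMap.proj i
  let P : (Fin n → ℤ) → L := fun z => ∑ i, z i • g i
  have hB : ∀ z w : Fin n → ℤ, B (fun i => (z i : ℚ)) (fun i => (w i : ℚ)) = b (P z) (P w) := by
    intro z w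
    show (∑ i, ∑ j, (z i : ℚ) * (w j : ℚ) * b (g i) (g j)) = bl (P w) (P z)
    rw [map_sum]
    refine Finset.sum_congr rfl fun i _ => ?_
    rw [map_zsmul]
    show _ = z i • br (g i) (P w)
    rw [map_sum, Finset.smul_sum]
    refine Finset.sum_congr rfl fun j _ => ?_
    rw [map_zsmul, zsmul_eq_mul, zsmul_eq_mul, mul_assoc]
    rfl
  have hf : ∀ z : Fin n → ℤ, f (fun i => (z i : ℚ)) = ℓ (P z) := by
    intro z
    simp [f, P, mul_comm]
  have hint : ∀ c : Fin n → ℚ, ∃ (N : ℚ) (z : Fin n → ℤ), N ≠ 0 ∧ N • c = fun i => (z i : ℚ) := by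
    intro c
    obtain ⟨d, hd⟩ := IsLocalization.exist_integer_multiples (nonZeroDivisors ℤ) Finset.univ c
    choose z hz using fun i => hd i (Finset.mem_univ i)
    refine ⟨((d : ℤ) : ℚ), z, by exact_mod_cast nonZeroDivisors.coe_ne_zero d, funext fun i => ?_⟩
    have := hz i
    simp [zsmul_eq_mul] at this ⊢
    exact this.symm
  have hz0 : ∀ z : Fin n → ℤ, 0 ≤ b (P z) (P z) := by
    intro z
    by_cases h : P z = 0
    · rw [h, show b 0 0 = 0 from (bl 0).map_zero]
    · exact (hpos _ h).le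
  have hnn : ∀ c, 0 ≤ B c c := by
    intro c
    obtain ⟨N, z, hN, hc⟩ := hint c
    have h1 : N * N * B c c = b (P z) (P z) := by
      rw [← hB, ← hc]
      simp [mul_assoc]
    have : 0 ≤ N * N * B c c := h1 ▸ hz0 z
    exact (mul_nonneg_iff_of_pos_left (mul_self_pos.mpr hN)).mp this
  have hker : f ∈ (LinearMap.ker B).dualAnnihilator := by
    rw [Submodule.mem_dualAnnihilator]
    intro c hc
    obtain ⟨N, z, hN, hNc⟩ := hint c
    have h1 : b (P z) (P z) = 0 := by
      rw [← hB, ← hNc]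
      simp [LinearMap.mem_ker.mp hc]
    have h2 : P z = 0 := by
      by_contra h
      exact (hpos _ h).ne' h1
    have h3 : N * f c = 0 := by
      rw [← smul_eq_mul, ← map_smul, hNc, hf, h2, map_zero]
    exact (mul_eq_zero.mp h3).resolve_left hN
  rw [LinearMap.dualAnnihilator_ker_eq_range_flip] at hker
  obtain ⟨v, hv⟩ := hker
  refine ⟨B v v, hnn v, fun x => ?_⟩
  obtain ⟨z, rfl⟩ : ∃ z, P z = x := (Submodule.mem_span_range_iff_exists_fun ℤ).mp (hg ▸ Submodule.mem_top)
  set c : Fin n → ℚ := fun i => (z i : ℚ) with hc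
  rw [← hf, ← hB, ← hc, ← hv]
  show B c v ^ 2 ≤ B v v * B c c
  have hsB : B v c = B c v := by
    show (∑ i, ∑ j, v i * c j * b (g i) (g j)) = ∑ i, ∑ j, c i * v j * b (g i) (g j)
    rw [Finset.sum_comm]
    exact Finset.sum_congr rfl fun i _ => Finset.sum_congr rfl fun j _ => by rw [hsymm (g j)]; ring
  have h := discrim_le_zero (a := B v v) (b := 2 * B c v) (c := B c c) fun t => by
    have e := hnn (c + t • v)
    simp only [map_add, map_smul, LinearMap.add_apply, LinearMap.smul_apply, smul_eq_mul, hsB] at e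
    linarith
  unfold discrim at h
  nlinarith

end Groth.Agent.HMTorus
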