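/-
The cocharacters of a split torus form a finitely generated group.
-/
import Groth.Agent.HMTorus.Main
import Groth.Agent.HMTorus.QuadBound

set_option backward.isDefEq.respectTransparency false
set_option backward.isDefEq.respectTransparency.types false
set_option linter.style.haveILetI false

universe u

open CategoryTheory MonoidalCategory CartesianMonoidalCategory MonObj AlgebraicGeometry WithConv

noncomputable section

namespace Groth.Agent.HMTorus

open GrpSchLib.AffineHopf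

variable {k : Type u} [Field k] {n : ℕ} {T : Over (Spec (CommRingCat.of k))} [GrpObj T]
  (e : sp k (MonoidAlgebra k (Lat' n)) ≅ T) [he : IsMonHom e.hom]

omit he in
theorem eq_of_isExp {l l' : Red.Gm (Spec (CommRingCat.of k)) ⟶ T} {ε : (Fin n → ℤ) → ℤ} (h : IsExp e l ε)
    (h' : IsExp e l' ε) : l = l' := by
  have hz : upt (k := k) (zu (k := k)) ≫ l = upt (k := k) (zu (k := k)) ≫ l' := by
    obtain ⟨f, hf, hm⟩ := h (Lz k) zu
    obtain ⟨f', hf', hm'⟩ := h' (Lz k) zu
    rw [hf, hf', MonoidAlgebra.algHom_ext (φ₁ := f) (φ₂ := f') (fun m => (hm m).trans (hm' m).symm) (by ext)]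
  let G₀ := Red.Gm (Spec (CommRingCat.of k))
  letI : Algebra k Γ(G₀.left, ⊤) := (sc G₀).toAlgebra
  let w : (Γ(G₀.left, ⊤))ˣ := GmPts.unitOfPt (𝟙 G₀)
  let φ : Lz k →ₐ[k] Γ(G₀.left, ⊤) := MonoidAlgebra.lift k Γ(G₀.left, ⊤) (Multiplicative ℤ)
    ((Units.coeHom Γ(G₀.left, ⊤)).comp (zpowersHom (Γ(G₀.left, ⊤))ˣ w))
  let q : G₀ ⟶ sp k (Lz k) := toSp φ.toRingHom fun c => φ.commutes c
  have hq : q ≫ upt (k := k) (zu (k := k)) = 𝟙 G₀ := by
    refine GmPts.gmFn_injective ?_
    show Red.gmFn (q ≫ upt (k := k) (zu (k := k))) = Red.gmFn (𝟙 G₀)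
    rw [GmPts.gmFn_comp, ← GmPts.val_unitOfPt, unitOfPt_upt, toSp_gl, ← GmPts.val_unitOfPt]
    show φ (MonoidAlgebra.single (Multiplicative.ofAdd (1 : ℤ)) 1) = (w : Γ(G₀.left, ⊤))
    simp [φ, MonoidAlgebra.lift_single, zpowersHom_apply]
  calc l = (q ≫ upt (k := k) (zu (k := k))) ≫ l := by rw [hq, Category.id_comp]
    _ = (q ≫ upt (k := k) (zu (k := k))) ≫ l' := by rw [Category.assoc, hz, Category.assoc]
    _ = l' := by rw [hq, Category.id_comp]

include e he in
theorem isCommMonObj_of_split : IsCommMonObj T := by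
  haveI : IsCommMonObj (sp k (MonoidAlgebra k (Lat' n))) := inferInstance
  have h1 : ∀ {X : Over (Spec (CommRingCat.of k))} (p q : X ⟶ T), p * q = q * p := by
    intro X p q
    have : ∀ r : X ⟶ T, r = (r ≫ e.inv) ≫ e.hom := fun r => by
      rw [Category.assoc, e.inv_hom_id, Category.comp_id]
    conv_lhs => rw [this p, this q, ← MonObj.mul_comp, mul_comm, MonObj.mul_comp, ← this q, ← this p]
  refine ⟨?_⟩
  have e1 : μ[T] = fst T T * snd T T := by rw [Hom.mul_def, lift_fst_snd, Category.id_comp]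
  rw [e1, MonObj.comp_mul, braiding_hom_fst, braiding_hom_snd]
  exact h1 _ _

theorem isMonHom_one {H K : Over (Spec (CommRingCat.of k))} [GrpObj H] [GrpObj K] : IsMonHom (1 : H ⟶ K) where
  one_hom := MonObj.comp_one _
  mul_hom := by
    rw [MonObj.comp_one]
    have e1 : μ[K] = fst K K * snd K K := by rw [Hom.mul_def, lift_fst_snd, Category.id_comp]
    rw [e1, MonObj.comp_mul, tensorHom_fst, tensorHom_snd, MonObj.comp_one, MonObj.comp_one, _root_.one_mul]

theorem isMonHom_mul' {H K : Over (Spec (CommRingCat.of k))} [GrpObj H] [GrpObj K] [IsCommMonObj K] (f g : H ⟶ K)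
    [IsMonHom f] [IsMonHom g] : IsMonHom (f * g) where
  one_hom := by rw [MonObj.comp_mul, IsMonHom.one_hom, IsMonHom.one_hom, MonObj.one_eq_one, _root_.one_mul]
  mul_hom := by
    have e1 : μ[K] = fst K K * snd K K := by rw [Hom.mul_def, lift_fst_snd, Category.id_comp]
    rw [MonObj.comp_mul, IsMonHom.mul_hom, IsMonHom.mul_hom, e1]
    simp only [MonObj.comp_mul, tensorHom_fst, tensorHom_snd]
    exact mul_mul_mul_comm _ _ _ _

theorem isMonHom_inv' {H K : Over (Spec (CommRingCat.of k))} [GrpObj H] [GrpObj K] [IsCommMonObj K] (f : H ⟶ K)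
    [IsMonHom f] : IsMonHom f⁻¹ := inferInstance

/-- Homomorphisms into a commutative group form a group. -/
def monHoms (H K : Over (Spec (CommRingCat.of k))) [GrpObj H] [GrpObj K] [IsCommMonObj K] : Subgroup (H ⟶ K) where
  carrier := {l | IsMonHom l}
  one_mem' := isMonHom_one
  mul_mem' := fun {p q} hp hq => by
    haveI : IsMonHom p := hp
    haveI : IsMonHom q := hq
    exact isMonHom_mul' p q
  inv_mem' := fun {p} hp => by
    haveI : IsMonHom p := hp
    exact isMonHom_inv' p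

include e he in
/-- A functional on cocharacters is bounded by a positive definite form. -/
theorem exists_cochar_bound
    (b : (Red.Gm (Spec (CommRingCat.of k)) ⟶ T) → (Red.Gm (Spec (CommRingCat.of k)) ⟶ T) → ℚ)
    (hb_add : ∀ (l₁ l₂ l₃ : Red.Gm (Spec (CommRingCat.of k)) ⟶ T) [IsMonHom l₁] [IsMonHom l₂] [IsMonHom l₃],
      b (l₁ * l₂) l₃ = b l₁ l₃ + b l₂ l₃)
    (hb_symm : ∀ (l₁ l₂ : Red.Gm (Spec (CommRingCat.of k)) ⟶ T) [IsMonHom l₁] [IsMonHom l₂], b l₁ l₂ = b l₂ l₁)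
    (hb_pos : ∀ (l : Red.Gm (Spec (CommRingCat.of k)) ⟶ T) [IsMonHom l], l ≠ 1 → 0 < b l l)
    (ℓ : (Red.Gm (Spec (CommRingCat.of k)) ⟶ T) → ℚ)
    (hℓ : ∀ (l₁ l₂ : Red.Gm (Spec (CommRingCat.of k)) ⟶ T) [IsMonHom l₁] [IsMonHom l₂], ℓ (l₁ * l₂) = ℓ l₁ + ℓ l₂) :
    ∃ K : ℚ, 0 ≤ K ∧ ∀ (l : Red.Gm (Spec (CommRingCat.of k)) ⟶ T) [IsMonHom l], ℓ l ^ 2 ≤ K * b l l := by
  haveI := isCommMonObj_of_split e
  let S := monHoms (Red.Gm (Spec (CommRingCat.of k))) T
  have hmon : ∀ x : S, IsMonHom (x : Red.Gm (Spec (CommRingCat.of k)) ⟶ T) := fun x => x.2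
  choose ε hε using fun x : S => haveI := hmon x; exists_isExp e (x : Red.Gm (Spec (CommRingCat.of k)) ⟶ T)
  have hadd : ∀ (x : S) (m m' : Fin n → ℤ), ε x (m + m') = ε x m + ε x m' := fun x m m' => by
    obtain ⟨f, -, hm⟩ := hε x (Lz k) zu
    apply zu_zpow_injective (k := k)
    show ((zu ^ ε x (m + m') : (Lz k)ˣ) : Lz k) = ((zu ^ (ε x m + ε x m') : (Lz k)ˣ) : Lz k)
    have h1 := hm (Multiplicative.ofAdd (m + m'))
    have h2 := hm (Multiplicative.ofAdd m)
    have h3 := hm (Multiplicative.ofAdd m')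
    simp only [toAdd_ofAdd] at h1 h2 h3
    rw [zpow_add, Units.val_mul, ← h1, ← h2, ← h3, ← map_mul, MonoidAlgebra.single_mul_single, _root_.one_mul,
      ← ofAdd_add]
  let Φ : Additive S →+ ((Fin n → ℤ) →+ ℤ) := AddMonoidHom.mk' (fun x => AddMonoidHom.mk' (ε x.toMul) (hadd _))
    fun x y => AddMonoidHom.ext fun m => congrFun
      (isExp_unique e (hε (x + y).toMul) (isExp_mul e (hε x.toMul) (hε y.toMul))) m
  have hΦ : Function.Injective Φ.toIntLinearMap := fun x y h => by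
    apply Additive.toMul.injective
    apply Subtype.ext
    have h' : ε x.toMul = ε y.toMul := funext fun m => DFunLike.congr_fun h m
    exact eq_of_isExp e (hε x.toMul) (h' ▸ hε y.toMul)
  haveI : IsNoetherian ℤ ((Fin n → ℤ) →+ ℤ) :=
    isNoetherian_of_linearEquiv (addMonoidHomLequivInt ℤ (A := Fin n → ℤ) (B := ℤ)).symm
  haveI : Module.Finite ℤ (Additive S) := Module.Finite.of_injective Φ.toIntLinearMap hΦ
  obtain ⟨K, hK0, hK⟩ := exists_sq_bound (L := Additive S) (fun x y => b x.toMul.1 y.toMul.1)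
    (fun x y z => haveI := hmon x.toMul; haveI := hmon y.toMul; haveI := hmon z.toMul; hb_add _ _ _)
    (fun x y => haveI := hmon x.toMul; haveI := hmon y.toMul; hb_symm _ _)
    (fun x hx => haveI := hmon x.toMul; hb_pos _ fun h => hx (Additive.toMul.injective (Subtype.ext h)))
    (AddMonoidHom.mk' (fun x => ℓ x.toMul.1) fun x y => haveI := hmon x.toMul; haveI := hmon y.toMul; hℓ _ _)
  exact ⟨K, hK0, fun l hl => hK (Additive.ofMul ⟨l, hl⟩)⟩

end Groth.Agent.HMTorus
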