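import Groth.Agent.HMTorus.Order

/-!
# The character expansion of sections along torus orbits
-/

set_option autoImplicit false
set_option backward.isDefEq.respectTransparency.types false

universe u

open CategoryTheory CategoryTheory.Limits MonoidalCategory CartesianMonoidalCategory MonObj AlgebraicGeometry Opposite

noncomputable section

namespace Groth.Agent.HMTorus

open GrpSchLib.AffineHopf

variable {k : Type u} [Field k]

/-- Maps from the spectrum of the field to an affine scheme. -/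
theorem exists_algHom {C : Type u} [CommRing C] [Algebra k C] (q : sp k k ⟶ sp k C) :
    ∃ φ : C →ₐ[k] k, q = spMap φ := by
  let φ : C →ₐ[k] k :=
    { (gr (k := k) k).comp (q.left.appTop.hom.comp (gl (k := k) C)) with
      commutes' := fun c => by
        show gr (k := k) k (q.left.appTop (gl (k := k) C (algebraMap k C c))) = _
        rw [← sc_sp, comp_sc, gr_sc] }
  refine ⟨φ, sp_hom_ext fun z => ?_⟩
  rw [spMap_gl]
  exact (gl_gr _).symm

variable {n : ℕ} {T : Over (Spec (CommRingCat.of k))} [GrpObj T] (e : sp k (MonoidAlgebra k (Lat' n)) ≅ T)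

theorem pt_id : pt e (AlgHom.id k _) = e.hom := by rw [pt, spMap_id, Category.id_comp]

variable [he : IsMonHom e.hom]

include e he in
theorem pt_comm {C : Type u} [CommRing C] [Algebra k C] (p q : sp k C ⟶ T) : p * q = q * p := by
  obtain ⟨f, rfl⟩ := exists_pt e p
  obtain ⟨g, rfl⟩ := exists_pt e q
  obtain ⟨h, hh, hm⟩ := pt_mul e f g
  obtain ⟨h', hh', hm'⟩ := pt_mul e g f
  rw [hh, hh']
  refine congrArg (pt e) (MonoidAlgebra.algHom_ext (fun m => ?_) (by ext))
  rw [hm, hm', _root_.mul_comm]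

include e he in
theorem const_comm (l : Red.Gm (Spec (CommRingCat.of k)) ⟶ T) (t : 𝟙_ (Over (Spec (CommRingCat.of k))) ⟶ T) :
    (toUnit _ ≫ t) * l = l * (toUnit _ ≫ t) :=
  gm_hom_ext (by rw [MonObj.comp_mul, MonObj.comp_mul]; exact pt_comm e _ _)

variable {X' G : Over (Spec (CommRingCat.of k))} [GrpObj G] {a : AlgGrp.Action G X'} (B : GLinSh.LinBun G a)
  (i : T ⟶ G)

/-- The orbit map in the total space. -/
def orbV (v : 𝟙_ (Over (Spec (CommRingCat.of k))) ⟶ B.V) : T ⟶ B.V := lift i (toUnit T ≫ v) ≫ B.lift.act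

omit he in
theorem comp_orbV (v : 𝟙_ (Over (Spec (CommRingCat.of k))) ⟶ B.V) {C : Type u} [CommRing C] [Algebra k C] (p : sp k C ⟶ T) :
    p ≫ orbV B i v = lift (p ≫ i) (toUnit _ ≫ v) ≫ B.lift.act := by
  rw [orbV, ← Category.assoc, comp_lift, ← Category.assoc p (toUnit _), comp_toUnit]

/-- The expansion in characters of a function along an orbit. -/
def chExp (v : 𝟙_ (Over (Spec (CommRingCat.of k))) ⟶ B.V) (f : Γ(B.V.left, ⊤)) : MonoidAlgebra k (Lat' n) :=
  gr (k := k) _ ((e.hom ≫ orbV B i v).left.appTop f)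

omit he in
theorem gr_pt_orbV (v : 𝟙_ (Over (Spec (CommRingCat.of k))) ⟶ B.V) (f : Γ(B.V.left, ⊤)) {C : Type u} [CommRing C]
    [Algebra k C] (φ : MonoidAlgebra k (Lat' n) →ₐ[k] C) :
    gr (k := k) C ((pt e φ ≫ orbV B i v).left.appTop f) = φ (chExp e B i v f) := by
  rw [pt, Category.assoc, chExp]
  refine (congrArg (gr (k := k) C) (GmPts.appTop_comp_apply (spMap φ).left (e.hom ≫ orbV B i v).left f)).trans ?_
  exact spMap_gr φ _

omit he in
/-- Only finitely many characters occur. -/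
theorem exists_bound [CompactSpace X'.left] (f : Γ(B.V.left, ⊤)) :
    ∃ Λ : Finset (Lat' n), ∀ v, ∀ m ∉ Λ, (chExp e B i v f).coeff m = 0 := by
  classical
  haveI := B.atlas.affine
  haveI : CompactSpace B.V.left := QuasiCompact.compactSpace_of_compactSpace B.π.left
  obtain ⟨s, hs⟩ := (CompactSpace.isCompact_univ (X := B.V.left)).elim_finite_subcover
    (fun W : B.V.left.affineOpens => ((W : B.V.left.Opens) : Set B.V.left)) (fun W => W.1.2) (fun p _ => by
      obtain ⟨W, hW, hp, -⟩ := TopologicalSpace.Opens.isBasis_iff_nbhd.1 B.V.left.isBasis_affineOpens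
        (show p ∈ (⊤ : B.V.left.Opens) from trivial)
      exact Set.mem_iUnion.2 ⟨⟨W, hW⟩, hp⟩)
  have step : ∀ W : B.V.left.affineOpens, ∃ Λ : Finset (Lat' n), ∀ v : 𝟙_ (Over (Spec (CommRingCat.of k))) ⟶ B.V,
      v.left.base (IsLocalRing.closedPoint k) ∈ (W : B.V.left.Opens) → ∀ m ∉ Λ, (chExp e B i v f).coeff m = 0 := fun W => by
    let Wo : Over (Spec (CommRingCat.of k)) := Over.mk ((W : B.V.left.Opens).ι ≫ B.V.hom)
    haveI : IsAffine Wo.left := W.2
    let A : Type u := Γ(Wo.left, ⊤)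
    letI : Algebra k A := (sc Wo).toAlgebra
    let j : Wo ⟶ sp k A := toSp (RingHom.id A) fun _ => rfl
    haveI : IsIso j.left := by
      show IsIso (Wo.left.toSpecΓ ≫ Spec.map (𝟙 Γ(Wo.left, ⊤)))
      rw [Spec.map_id, Category.comp_id]
      infer_instance
    haveI : IsIso ((Over.forget _).map j) := ‹IsIso j.left›
    haveI : IsIso j := isIso_of_reflects_iso j (Over.forget _)
    let io : Wo ⟶ B.V := Over.homMk (W : B.V.left.Opens).ι rfl
    let ηW : sp k A ⟶ B.V := CategoryTheory.inv j ≫ io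
    let incM : MonoidAlgebra k (Lat' n) →ₐ[k] MonoidAlgebra A (Lat' n) :=
      MonoidAlgebra.mapAlgHom (Lat' n) (Algebra.ofId k A)
    let incA : A →ₐ[k] MonoidAlgebra A (Lat' n) := IsScalarTower.toAlgHom k A _
    let w : sp k (MonoidAlgebra A (Lat' n)) ⟶ B.V := lift (pt e incM ≫ i) (spMap incA ≫ ηW) ≫ B.lift.act
    let P : MonoidAlgebra A (Lat' n) := gr (k := k) _ (w.left.appTop f)
    refine ⟨P.coeff.support, fun v hv m hm => ?_⟩
    let v₀ : 𝟙_ (Over (Spec (CommRingCat.of k))) ⟶ Wo := Over.homMk (IsOpenImmersion.lift (W : B.V.left.Opens).ι v.left (by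
        rw [Scheme.Opens.range_ι]
        rintro _ ⟨p, rfl⟩
        exact (Subsingleton.elim (α := Spec (CommRingCat.of k)) (IsLocalRing.closedPoint k) p) ▸ hv)) (by
      show IsOpenImmersion.lift _ _ _ ≫ (W : B.V.left.Opens).ι ≫ B.V.hom = _
      rw [IsOpenImmersion.lift_fac_assoc]; exact Over.w v)
    have hv₀ : v₀ ≫ io = v := Over.OverMorphism.ext (IsOpenImmersion.lift_fac _ _ _)
    obtain ⟨φ, hφ⟩ := exists_algHom (toUnit (sp k k) ≫ v₀ ≫ j)
    let Ψ : MonoidAlgebra A (Lat' n) →ₐ[k] MonoidAlgebra k (Lat' n) := MonoidAlgebra.mapAlgHom (Lat' n) φ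
    have hM : Ψ.comp incM = AlgHom.id k _ := MonoidAlgebra.algHom_ext (fun m => by simp [Ψ, incM]) (by ext)
    have hA : Ψ.comp incA = (Algebra.ofId k _).comp φ := AlgHom.ext fun c => by
      simp [Ψ, incA, MonoidAlgebra.coe_algebraMap, Algebra.ofId_apply]
    have hc : spMap (Algebra.ofId k (MonoidAlgebra k (Lat' n))) = toUnit _ ≫ pt1 := by
      refine sp_hom_ext fun z => ?_
      rw [spMap_gl, pt1, Over.comp_left, GmPts.appTop_comp_apply]
      refine Eq.symm ((congrArg (toUnit _ : sp k (MonoidAlgebra k (Lat' n)) ⟶ _).left.appTop (toSp_gl _ _ z)).trans ?_)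
      rw [comp_sc, sc_sp]
      rfl
    have hw : spMap Ψ ≫ w = e.hom ≫ orbV B i v := by
      rw [← pt_id e, comp_orbV, ← Category.assoc, comp_lift, ← Category.assoc, spMap_pt, hM]
      refine congrArg (fun z => lift (pt e (AlgHom.id k _) ≫ i) z ≫ B.lift.act) ?_
      rw [← Category.assoc, spMap_comp, hA, ← spMap_comp, hc, ← hφ]
      simp only [ηW, Category.assoc, IsIso.hom_inv_id_assoc, hv₀]
      rw [← Category.assoc pt1, pt1_toUnit, Category.id_comp]
    have : chExp e B i v f = Ψ P := by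
      rw [chExp, ← hw]
      refine (congrArg (gr (k := k) _) (GmPts.appTop_comp_apply (spMap Ψ).left w.left f)).trans ?_
      exact spMap_gr Ψ _
    rw [this]
    show φ (P.coeff m) = 0
    rw [Finsupp.notMem_support_iff.1 hm, map_zero]
  choose Λ hΛ using step
  refine ⟨s.biUnion Λ, fun v m hm => ?_⟩
  obtain ⟨W, hW, hp⟩ := Set.mem_iUnion₂.1 (hs (Set.mem_univ (v.left.base (IsLocalRing.closedPoint k))))
  exact hΛ W v hp m fun h => hm (Finset.mem_biUnion.2 ⟨W, hW, h⟩)

variable [IsMonHom i]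

include he in
/-- The expansion at a translated point. -/
theorem chExp_transl (φ : MonoidAlgebra k (Lat' n) →ₐ[k] k) (v : 𝟙_ (Over (Spec (CommRingCat.of k))) ⟶ B.V)
    (f : Γ(B.V.left, ⊤)) (m : Lat' n) :
    (chExp e B i (lift ((pt1 ≫ pt e φ) ≫ i) v ≫ B.lift.act) f).coeff m =
      φ (MonoidAlgebra.single m 1) * (chExp e B i v f).coeff m := by
  obtain ⟨h, hh, hm⟩ := pt_mul e (AlgHom.id k _) ((Algebra.ofId k (MonoidAlgebra k (Lat' n))).comp φ)
  have hw : e.hom ≫ orbV B i (lift ((pt1 ≫ pt e φ) ≫ i) v ≫ B.lift.act) = pt e h ≫ orbV B i v := by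
    rw [← hh, ← pt_id e, comp_orbV, comp_orbV, ← Category.assoc, comp_lift, GrpSchLib.act_mul, ← spMap_pt,
      MonObj.mul_comp]
    refine congrArg (fun z => lift ((pt e (AlgHom.id k _) ≫ i) * z) (toUnit _ ≫ v) ≫ B.lift.act) ?_
    rw [← Category.assoc]
    refine congrArg (fun z => z ≫ i) ?_
    rw [← Category.assoc]
    refine congrArg (fun z => z ≫ pt e φ) (sp_hom_ext fun z => ?_)
    rw [spMap_gl, pt1, Over.comp_left, GmPts.appTop_comp_apply]
    refine ((congrArg (toUnit _ : sp k (MonoidAlgebra k (Lat' n)) ⟶ _).left.appTop (toSp_gl _ _ z)).trans ?_)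
    rw [comp_sc, sc_sp]
    rfl
  rw [chExp, hw, gr_pt_orbV]
  have key : ∀ F : MonoidAlgebra k (Lat' n), (h F).coeff m = φ (MonoidAlgebra.single m 1) * F.coeff m := fun F => by
    induction F using MonoidAlgebra.induction_linear with
    | zero => simp
    | add p q hp hq => simp [map_add, hp, hq, mul_add]
    | single j c =>
      rw [← _root_.mul_one c, ← MonoidAlgebra.smul_single', map_smul, hm]
      by_cases hj : j = m
      · subst hj
        simp [MonoidAlgebra.coe_algebraMap, Algebra.ofId_apply, MonoidAlgebra.single_mul_single, _root_.mul_comm]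
      · simp [MonoidAlgebra.coe_algebraMap, Algebra.ofId_apply, MonoidAlgebra.single_mul_single, hj]
  exact key _

omit he in
omit [IsMonHom i] in
/-- A section along the orbit of a cocharacter. -/
theorem coeff_orbFn {l : Red.Gm (Spec (CommRingCat.of k)) ⟶ T} {ε : (Fin n → ℤ) → ℤ} (hl : IsExp e l ε)
    (v : 𝟙_ (Over (Spec (CommRingCat.of k))) ⟶ B.V) (f : Γ(B.V.left, ⊤)) (Λ : Finset (Lat' n))
    (hΛ : ∀ m ∉ Λ, (chExp e B i v f).coeff m = 0) (j : ℤ) :
    (orbFn B (l ≫ i) v f).coeff j = ∑ m ∈ Λ.filter (fun m => ε m.toAdd = j), (chExp e B i v f).coeff m := by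
  classical
  obtain ⟨φ, hφ, hφm⟩ := hl (LaurentSeries k) (zK (k := k))
  have hv : vK B (l ≫ i) v = pt e φ ≫ orbV B i v := by rw [vK, comp_orbV, ← hφ, Category.assoc]
  rw [orbFn, hv, gr_pt_orbV]
  have key : chExp e B i v f = ∑ m ∈ Λ, (chExp e B i v f).coeff m • MonoidAlgebra.single m 1 := by
    refine MonoidAlgebra.coeff_inj.1 (Finsupp.ext fun m => ?_)
    rw [MonoidAlgebra.coeff_sum, Finsupp.finset_sum_apply]
    simp only [MonoidAlgebra.smul_single', _root_.mul_one, MonoidAlgebra.coeff_single, Finsupp.single_apply, Finset.sum_ite_eq']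
    split_ifs with hm
    · rfl
    · exact hΛ m hm
  conv_lhs => rw [key]
  rw [map_sum, HahnSeries.coeff_sum, Finset.sum_filter]
  refine Finset.sum_congr rfl fun m _ => ?_
  rw [Algebra.smul_def, map_mul, AlgHom.commutes, hφm, zK_zpow]
  simp [HahnSeries.coeff_single, eq_comm, Algebra.smul_def, LaurentSeries.algebraMap_apply]

end Groth.Agent.HMTorus
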