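import Groth.Agent.HMTorus.Aff

/-!
# Limits of one parameter subgroups in proper schemes
-/

set_option autoImplicit false
set_option backward.isDefEq.respectTransparency.types false

universe u

open CategoryTheory CategoryTheory.Limits MonoidalCategory CartesianMonoidalCategory MonObj AlgebraicGeometry Opposite
open Polynomial (X)

noncomputable section

namespace Groth.Agent.HMTorus

open GrpSchLib.AffineHopf

variable {k : Type u} [Field k]

/-- Points of the multiplicative group through the affine line. -/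
theorem toX_incl_comp {Y : Over (Spec (CommRingCat.of k))} (o : Red.Gm (Spec (CommRingCat.of k)) ⟶ Y)
    (ψ : sp k (Polynomial k) ⟶ Y)
    (hψ : spMap (IsScalarTower.toAlgHom k (Polynomial k) (Xo k)) ≫ ψ = upt uX ≫ o)
    {T : Over (Spec (CommRingCat.of k))} (p : T ⟶ Red.Gm (Spec (CommRingCat.of k))) :
    toX T (p ≫ HMNum.incl _) ≫ ψ = p ≫ o := by
  let u := GmPts.unitOfPt p
  let φ₀ : Polynomial k →+* Γ(T.left, ⊤) := Polynomial.eval₂RingHom (sc T) (u : Γ(T.left, ⊤))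
  have hu : IsUnit (φ₀ (X : Polynomial k)) := by simp [φ₀]
  let φ : Xo k →+* Γ(T.left, ⊤) := IsLocalization.Away.lift (X : Polynomial k) hu
  have hφ : ∀ q, φ (algebraMap (Polynomial k) (Xo k) q) = φ₀ q := IsLocalization.Away.lift_eq _ hu
  let q : T ⟶ sp k (Xo k) := toSp φ fun c => by
    rw [IsScalarTower.algebraMap_apply k (Polynomial k) (Xo k), hφ]
    simp [φ₀]
  have h₁ : q ≫ spMap (IsScalarTower.toAlgHom k (Polynomial k) (Xo k)) = toX T (p ≫ HMNum.incl _) := by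
    refine poly_hom_ext ?_
    rw [toX, xPt_X, a1Fn_incl]
    refine (GmPts.appTop_comp_apply q.left _ _).trans ?_
    rw [spMap_gl, toSp_gl]
    exact (hφ _).trans (by simp [φ₀, u])
  have h₂ : q ≫ upt uX = p := by
    refine (GmPts.equiv T).injective (Units.ext ?_)
    show (GmPts.unitOfPt (q ≫ upt uX) : Γ(T.left, ⊤)) = u
    rw [GmPts.unitOfPt_comp]
    show q.left.appTop ((GmPts.unitOfPt (upt (k := k) uX)).val) = u
    rw [unitOfPt_upt, toSp_gl]
    exact (hφ _).trans (by simp [φ₀, u])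
  rw [← h₁, Category.assoc, hψ, ← Category.assoc, h₂]

variable {G X' : Over (Spec (CommRingCat.of k))} [GrpObj G] (a : AlgGrp.Action G X')
  (l : Red.Gm (Spec (CommRingCat.of k)) ⟶ G) [IsMonHom l] (x : 𝟙_ (Over (Spec (CommRingCat.of k))) ⟶ X')

/-- The orbit map of a one parameter subgroup. -/
def orb : Red.Gm (Spec (CommRingCat.of k)) ⟶ X' := lift l (toUnit _ ≫ x) ≫ a.act

theorem comp_orb {T : Over (Spec (CommRingCat.of k))} (p : T ⟶ Red.Gm (Spec (CommRingCat.of k))) :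
    p ≫ orb a l x = lift (p ≫ l) (toUnit T ≫ x) ≫ a.act := by
  rw [orb, ← Category.assoc, comp_lift, ← Category.assoc p (toUnit _), comp_toUnit]

/-- Limits exist in proper schemes. -/
theorem exists_isLimitPt [IsProper X'.hom] :
    ∃ ψ : sp k (Polynomial k) ⟶ X', spMap (IsScalarTower.toAlgHom k (Polynomial k) (Xo k)) ≫ ψ = upt uX ≫ orb a l x ∧
      HMNum.IsLimitPt a l x (xPt (T := 𝟙_ _) 0 ≫ ψ) := by
  obtain ⟨ψ, hψ⟩ := exists_extend (orb a l x)
  let A := HMNum.A1 (Spec (CommRingCat.of k))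
  let φ : A ⊗ 𝟙_ _ ⟶ X' := toX _ (fst A (𝟙_ _)) ≫ ψ
  have hφ : ∀ {T' : Over (Spec (CommRingCat.of k))} (b : T' ⟶ A) (t : T' ⟶ 𝟙_ _), lift b t ≫ φ = toX T' b ≫ ψ :=
    fun {T'} b t => by
      rw [← Category.assoc, comp_toX, lift_fst]
  let Gm := Red.Gm (Spec (CommRingCat.of k))
  have hc : ∀ {T'' : Over (Spec (CommRingCat.of k))} (g : T'' ⟶ A ⊗ Gm) (b : A ⊗ Gm ⟶ A),
      g ≫ toX (A ⊗ Gm) b ≫ ψ = toX T'' (g ≫ b) ≫ ψ := fun g b => by
    rw [← Category.assoc, comp_toX]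
  let sA : A ⊗ Gm ⟶ A := lift (snd A Gm) (fst _ _) ≫ (Magnet.subAct (Spec (CommRingCat.of k)) ℤ HMNum.plus).act
  have hL : ∀ {T'' : Over (Spec (CommRingCat.of k))} (b : T'' ⟶ A) (s : T'' ⟶ Gm),
      lift b s ≫ toX (A ⊗ Gm) sA ≫ ψ =
        toX T'' (lift s b ≫ (Magnet.subAct (Spec (CommRingCat.of k)) ℤ HMNum.plus).act) ≫ ψ := fun b s => by
    refine (hc _ _).trans ?_
    refine congrArg (fun z => toX _ z ≫ ψ) ?_
    simp only [sA]
    rw [← Category.assoc, comp_lift, lift_fst, lift_snd]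
  have hR : ∀ {T'' : Over (Spec (CommRingCat.of k))} (b : T'' ⟶ A) (s : T'' ⟶ Gm),
      lift b s ≫ lift (snd A Gm ≫ l) (toX (A ⊗ Gm) (fst A Gm) ≫ ψ) ≫ a.act =
        lift (s ≫ l) (toX T'' b ≫ ψ) ≫ a.act := fun b s => by
    rw [← Category.assoc, comp_lift, ← Category.assoc _ (snd A Gm), lift_snd, hc, lift_fst]
  have key : toX (A ⊗ Gm) sA ≫ ψ = lift (snd A Gm ≫ l) (toX _ (fst A Gm) ≫ ψ) ≫ a.act := by
    refine Groth.Agent.MagnetLib.ext_of_AMonS_map (X := X') HMNum.plus.subtype Subtype.val_injective Gm _ _ ?_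
    refine Magnet.hom_ext_lift₂ ?_
    intro T' s' u
    rw [lift_whiskerRight_assoc, lift_whiskerRight_assoc]
    refine (hL _ _).trans (Eq.trans ?_ (hR _ _).symm)
    have e : lift u (s' ≫ Magnet.AMonS.map (Spec (CommRingCat.of k)) HMNum.plus.subtype) ≫
        (Magnet.subAct (Spec (CommRingCat.of k)) ℤ HMNum.plus).act = (u * s') ≫ HMNum.incl _ := by
      rw [Magnet.subAct, Magnet.MonAct.lift_restrict_act, Magnet.MonAct.lift_regular_act, MonObj.mul_comp]
    refine (congrArg (fun z => toX _ z ≫ ψ) e).trans ?_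
    refine (toX_incl_comp _ ψ hψ _).trans (Eq.trans ?_ (congrArg (fun z => lift _ z ≫ a.act) (toX_incl_comp _ ψ hψ s').symm))
    rw [comp_orb, comp_orb, MonObj.mul_comp, GrpSchLib.act_mul]
  refine ⟨ψ, hψ, ⟨φ, ?_⟩, ?_, ?_⟩
  · rw [Magnet.MonAct.mem_eqvHom_iff]
    intro T' s b t
    rw [Magnet.MonAct.lift_restrict_act, Magnet.MonAct.ofAction_act, hφ, hφ]
    exact (hL b s).symm.trans ((congrArg (fun z => lift b s ≫ z) key).trans (hR b s))
  · simp only [Magnet.MonAct.eqvHom.evalAt_app]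
    refine (hφ _ _).trans ?_
    have e : toUnit (𝟙_ (Over (Spec (CommRingCat.of k)))) ≫ η[A] = (1 : 𝟙_ _ ⟶ Gm) ≫ HMNum.incl _ := by
      rw [MonObj.one_comp, Hom.one_def]
    refine (congrArg (fun b => toX _ b ≫ ψ) e).trans ?_
    rw [toX_incl_comp _ ψ hψ, comp_orb, MonObj.one_comp]
    refine (congrArg (· ≫ a.act) (congrArg (lift _) ((congrArg (· ≫ x) (toUnit_unit)).trans (Category.id_comp x)))).trans ?_
    exact GrpSchLib.act_one a x
  · rw [HMNum.limitPt_eq]
    refine (hφ _ _).trans ?_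
    rw [toX, a1Fn_origin]

end Groth.Agent.HMTorus
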