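import Groth.Agent.HMTorus.Split
import Groth.Agent.GrpSchLib.AffineHopf
import Groth.Prelude.Def_GmPts
import Mathlib.RingTheory.RootsOfUnity.Basic
import Mathlib.FieldTheory.IsAlgClosed.Basic

/-!
# Points and cocharacters of split tori
-/

set_option autoImplicit false
set_option backward.isDefEq.respectTransparency.types false

universe u

open CategoryTheory CategoryTheory.Limits MonoidalCategory CartesianMonoidalCategory MonObj AlgebraicGeometry TensorProduct
open WithConv

noncomputable section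

namespace Groth.Agent.HMTorus

open GrpSchLib.AffineHopf

variable {k : Type u} [Field k]

/-- Elements as functions on the spectrum. -/
def gl (C : Type u) [CommRing C] [Algebra k C] : C →+* Γ((sp k C).left, ⊤) :=
  (Scheme.ΓSpecIso (CommRingCat.of C)).inv.hom

/-- Functions on the spectrum as elements. -/
def gr (C : Type u) [CommRing C] [Algebra k C] : Γ((sp k C).left, ⊤) →+* C :=
  (Scheme.ΓSpecIso (CommRingCat.of C)).hom.hom

variable {C D : Type u} [CommRing C] [Algebra k C] [CommRing D] [Algebra k D]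

theorem gr_gl (x : C) : gr (k := k) C (gl C x) = x :=
  congrArg (fun r => r x) (congrArg CommRingCat.Hom.hom (Scheme.ΓSpecIso (CommRingCat.of C)).inv_hom_id)

theorem gl_gr (x : Γ((sp k C).left, ⊤)) : gl (k := k) C (gr C x) = x :=
  congrArg (fun r => r x) (congrArg CommRingCat.Hom.hom (Scheme.ΓSpecIso (CommRingCat.of C)).hom_inv_id)

theorem spMap_gl (σ : C →ₐ[k] D) (x : C) : (spMap σ).left.appTop (gl C x) = gl (k := k) D (σ x) :=
  (congrArg (fun ψ => (ConcreteCategory.hom ψ) x) (Scheme.ΓSpecIso_inv_naturality (CommRingCat.ofHom σ.toRingHom))).symm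

theorem spMap_gr (σ : C →ₐ[k] D) (x : Γ((sp k C).left, ⊤)) : gr (k := k) D ((spMap σ).left.appTop x) = σ (gr C x) := by
  conv_lhs => rw [← gl_gr x, spMap_gl, gr_gl]

/-- The point of the multiplicative group of a unit. -/
def upt (u : Cˣ) : sp k C ⟶ Red.Gm (Spec (CommRingCat.of k)) :=
  GmPts.ptOfUnit (Units.map (gl (k := k) C).toMonoidHom u)

theorem upt_mul (u v : Cˣ) : upt (k := k) (u * v) = upt u * upt v := by
  rw [upt, upt, upt, map_mul, GmPts.ptOfUnit_mul]

theorem upt_one : upt (k := k) (1 : Cˣ) = 1 := by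
  rw [upt, map_one, GmPts.ptOfUnit_one]

theorem spMap_upt (σ : C →ₐ[k] D) (u : Cˣ) : spMap σ ≫ upt u = upt (k := k) (Units.map σ.toRingHom.toMonoidHom u) := by
  rw [upt, upt, GmPts.ptOfUnit_comp]
  exact congrArg GmPts.ptOfUnit (Units.ext (spMap_gl σ u))

theorem unitOfPt_upt (u : Cˣ) : (GmPts.unitOfPt (upt (k := k) u) : Γ((sp k C).left, ⊤)) = gl C u := by
  rw [upt, GmPts.unitOfPt_ptOfUnit]; rfl

/-- The group algebra of the integers. -/
abbrev Lz (k : Type u) [Field k] : Type u := MonoidAlgebra k (Multiplicative ℤ)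

/-- The coordinate of the multiplicative group. -/
def zu : (Lz k)ˣ := Units.map (MonoidAlgebra.of k (Multiplicative ℤ)) (toUnits (Multiplicative.ofAdd (1 : ℤ)))

/-- Evaluation at a unit. -/
def sigma (u : Cˣ) : Lz k →ₐ[k] C :=
  MonoidAlgebra.lift k C (Multiplicative ℤ) ((Units.coeHom C).comp (zpowersHom Cˣ u))

theorem sigma_single (u : Cˣ) (i : ℤ) (a : k) :
    sigma u (MonoidAlgebra.single (Multiplicative.ofAdd i) a) = a • ((u ^ i : Cˣ) : C) := by
  simp [sigma, MonoidAlgebra.lift_single, zpowersHom_apply]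

theorem map_sigma_zu (u : Cˣ) : Units.map (sigma (k := k) u).toRingHom.toMonoidHom zu = u := by
  refine Units.ext ?_
  show sigma u (MonoidAlgebra.single (Multiplicative.ofAdd (1 : ℤ)) 1) = _
  rw [sigma_single, one_smul, zpow_one]

theorem upt_eq (u : Cˣ) : spMap (sigma (k := k) u) ≫ upt zu = upt u := by
  rw [spMap_upt, map_sigma_zu]

theorem zu_zpow (i : ℤ) : (((zu : (Lz k)ˣ) ^ i : (Lz k)ˣ) : Lz k) = MonoidAlgebra.single (Multiplicative.ofAdd i) 1 := by
  rw [zu, ← map_zpow]
  show MonoidAlgebra.of k _ (((toUnits (Multiplicative.ofAdd (1 : ℤ))) ^ i : (Multiplicative ℤ)ˣ) : Multiplicative ℤ) = _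
  rw [← map_zpow, MonoidAlgebra.of_apply, ← ofAdd_zsmul, smul_eq_mul, _root_.mul_one]
  rfl

theorem zu_zpow_injective : Function.Injective fun i : ℤ => (((zu : (Lz k)ˣ) ^ i : (Lz k)ˣ) : Lz k) := fun i j h => by
  simp only [zu_zpow] at h
  simpa using MonoidAlgebra.single_left_injective (one_ne_zero) h

/-- The character lattice. -/
abbrev Lat' (n : ℕ) : Type := Multiplicative (Fin n → ℤ)

variable {n : ℕ} {T : Over (Spec (CommRingCat.of k))} [GrpObj T] (e : sp k (MonoidAlgebra k (Lat' n)) ≅ T)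

/-- Points of the torus. -/
def pt (f : MonoidAlgebra k (Lat' n) →ₐ[k] C) : sp k C ⟶ T := spMap f ≫ e.hom

theorem exists_pt (p : sp k C ⟶ T) : ∃ f, p = pt e f := by
  obtain ⟨f, hf⟩ := exists_eq_spMap (p ≫ e.inv)
  exact ⟨f, by rw [pt, ← hf, Category.assoc, e.inv_hom_id, Category.comp_id]⟩

theorem pt_injective {f g : MonoidAlgebra k (Lat' n) →ₐ[k] C} (h : pt e f = pt e g) : f = g :=
  spMap_injective ((cancel_mono e.hom).1 h)

theorem spMap_pt (σ : C →ₐ[k] D) (f : MonoidAlgebra k (Lat' n) →ₐ[k] C) : spMap σ ≫ pt e f = pt e (σ.comp f) := by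
  rw [pt, pt, ← Category.assoc, spMap_comp]

variable [he : IsMonHom e.hom]

theorem pt_mul (f g : MonoidAlgebra k (Lat' n) →ₐ[k] C) :
    ∃ h, pt e f * pt e g = pt e h ∧ ∀ m, h (MonoidAlgebra.single m 1) =
      f (MonoidAlgebra.single m 1) * g (MonoidAlgebra.single m 1) := by
  refine ⟨(toConv f * toConv g).ofConv, ?_, fun m => ?_⟩
  · rw [pt, pt, pt, ← spMap_mul, MonObj.mul_comp]
  · simp [AlgHom.convMul_apply]

omit he in
/-- The exponents of a cocharacter. -/
def IsExp (l : Red.Gm (Spec (CommRingCat.of k)) ⟶ T) (ε : (Fin n → ℤ) → ℤ) : Prop :=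
  ∀ (C : Type u) [CommRing C] [Algebra k C] (u : Cˣ), ∃ f, upt u ≫ l = pt e f ∧
    ∀ m : Lat' n, f (MonoidAlgebra.single m 1) = ((u ^ ε m.toAdd : Cˣ) : C)

omit he in
theorem isExp_unique {l : Red.Gm (Spec (CommRingCat.of k)) ⟶ T} {ε ε' : (Fin n → ℤ) → ℤ} (h : IsExp e l ε)
    (h' : IsExp e l ε') : ε = ε' := funext fun m => by
  obtain ⟨f, hf, hm⟩ := h (Lz k) zu
  obtain ⟨f', hf', hm'⟩ := h' (Lz k) zu
  have := congrArg (fun φ : MonoidAlgebra k (Lat' n) →ₐ[k] Lz k => φ (MonoidAlgebra.single (Multiplicative.ofAdd m) 1))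
    (pt_injective e (hf.symm.trans hf'))
  simp only [hm, hm'] at this
  exact zu_zpow_injective this

theorem isExp_mul {l₁ l₂ : Red.Gm (Spec (CommRingCat.of k)) ⟶ T} {ε₁ ε₂ : (Fin n → ℤ) → ℤ} (h₁ : IsExp e l₁ ε₁)
    (h₂ : IsExp e l₂ ε₂) : IsExp e (l₁ * l₂) (fun m => ε₁ m + ε₂ m) := fun C _ _ u => by
  obtain ⟨f₁, hf₁, hm₁⟩ := h₁ C u
  obtain ⟨f₂, hf₂, hm₂⟩ := h₂ C u
  obtain ⟨f, hf, hm⟩ := pt_mul e f₁ f₂
  refine ⟨f, ?_, fun m => ?_⟩
  · rw [MonObj.comp_mul, hf₁, hf₂, hf]
  · rw [hm, hm₁, hm₂, ← Units.val_mul, ← zpow_add]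

/-- An element of `k[ℤ]` fixed by comultiplication is a monomial. -/
theorem exists_single {p : Lz k} (hp : p ≠ 0)
    (h : MonoidAlgebra.mapDomain (fun i : Multiplicative ℤ => (i, i)) p =
      MonoidAlgebra.mapDomain (fun i : Multiplicative ℤ => (i, (1 : Multiplicative ℤ))) p *
        MonoidAlgebra.mapDomain (fun i : Multiplicative ℤ => ((1 : Multiplicative ℤ), i)) p) :
    ∃ i : ℤ, p = MonoidAlgebra.single (Multiplicative.ofAdd i) 1 := by
  classical
  have key : ∀ i j : Multiplicative ℤ, (if i = j then p.coeff i else 0) = p.coeff i * p.coeff j := fun i j => by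
    have h' := congrArg (fun q : MonoidAlgebra k (Multiplicative ℤ × Multiplicative ℤ) => q.coeff (i, j)) h
    have hinj : Function.Injective fun i : Multiplicative ℤ => (i, i) := fun a b e => congrArg Prod.fst e
    have hl : (MonoidAlgebra.mapDomain (fun i : Multiplicative ℤ => (i, i)) p).coeff (i, j) = if i = j then p.coeff i else 0 := by
      show Finsupp.mapDomain _ p.coeff (i, j) = _
      split_ifs with hij
      · subst hij
        exact Finsupp.mapDomain_apply hinj _ _
      · refine Finsupp.mapDomain_notin_range _ _ ?_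
        rintro ⟨a, ha⟩
        exact hij ((congrArg Prod.fst ha).symm.trans (congrArg Prod.snd ha))
    simp only [hl] at h'
    rw [h', MonoidAlgebra.coeff_mul]
    show Finsupp.sum (Finsupp.mapDomain _ p.coeff) (fun m₁ r₁ => Finsupp.sum (Finsupp.mapDomain _ p.coeff) _) = _
    rw [Finsupp.sum_mapDomain_index (by simp) (fun m r₁ r₂ => by simp [← Finsupp.sum_add, add_mul, ← ite_add_zero])]
    have hb : ∀ (a : Multiplicative ℤ) (r : k), (Finsupp.mapDomain (fun i : Multiplicative ℤ => ((1 : Multiplicative ℤ), i)) p.coeff).sum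
        (fun m₂ r₂ => if (a, (1 : Multiplicative ℤ)) * m₂ = (i, j) then r * r₂ else 0) = if a = i then r * p.coeff j else 0 := fun a r => by
      rw [Finsupp.sum_mapDomain_index (by simp) (fun m r₁ r₂ => by simp [mul_add, ← ite_add_zero])]
      simp [Prod.ext_iff, ite_and, Finsupp.sum_ite_eq']
      split_ifs <;> simp_all
    simp only [hb, Finsupp.sum_ite_eq', Finsupp.mem_support_iff]
    split_ifs with h0 <;> simp_all
  obtain ⟨i, hi⟩ : ∃ i, p.coeff i ≠ 0 := not_forall.1 fun h0 => hp (MonoidAlgebra.coeff_inj.1 (Finsupp.ext h0))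
  have hpi : p.coeff i = 1 := by
    have := key i i
    rw [if_pos rfl] at this
    exact mul_left_cancel₀ hi (by rw [_root_.mul_one]; exact this.symm)
  refine ⟨i.toAdd, MonoidAlgebra.coeff_inj.1 (Finsupp.ext fun j => ?_)⟩
  show p.coeff j = Finsupp.single i 1 j
  rw [Finsupp.single_apply]
  split_ifs with hij
  · rw [← hij, hpi]
  · have := key i j
    rw [if_neg hij, hpi, _root_.one_mul] at this
    exact this.symm

theorem exists_isExp (l : Red.Gm (Spec (CommRingCat.of k)) ⟶ T) [IsMonHom l] : ∃ ε, IsExp e l ε := by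
  obtain ⟨lam, hlam⟩ := exists_pt e (upt (k := k) (zu (k := k)) ≫ l)
  have hu : ∀ (C : Type u) [CommRing C] [Algebra k C] (u : Cˣ), upt (k := k) u ≫ l = pt e ((sigma u).comp lam) := fun C _ _ u => by
    rw [← upt_eq (k := k) u, Category.assoc, hlam, spMap_pt]
  have hone : ∀ m : Lat' n, lam (MonoidAlgebra.single m 1) ≠ 0 := fun m => by
    refine IsUnit.ne_zero (IsUnit.map lam ?_)
    exact (Group.isUnit m).map (MonoidAlgebra.of k (Lat' n))
  have hdiag : ∀ m : Lat' n, ∃ i : ℤ, lam (MonoidAlgebra.single m 1) = MonoidAlgebra.single (Multiplicative.ofAdd i) 1 := fun m => by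
    let C := MonoidAlgebra k (Multiplicative ℤ × Multiplicative ℤ)
    let u₁ : Cˣ := Units.map (MonoidAlgebra.of k _) (toUnits (Multiplicative.ofAdd (1 : ℤ), 1))
    let u₂ : Cˣ := Units.map (MonoidAlgebra.of k _) (toUnits (1, Multiplicative.ofAdd (1 : ℤ)))
    obtain ⟨f, hf, hm⟩ := pt_mul e ((sigma u₁).comp lam) ((sigma u₂).comp lam)
    rw [← hu, ← hu, ← MonObj.mul_comp _ _ l, ← upt_mul, hu] at hf
    have := congrArg (fun φ : MonoidAlgebra k (Lat' n) →ₐ[k] C => φ (MonoidAlgebra.single m 1)) (pt_injective e hf)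
    simp only [hm, AlgHom.comp_apply] at this
    have hs : ∀ (io : Multiplicative ℤ →* Multiplicative ℤ × Multiplicative ℤ) (u : Cˣ),
        (u : C) = MonoidAlgebra.of k _ (io (Multiplicative.ofAdd (1 : ℤ))) →
        ∀ q, sigma u q = MonoidAlgebra.mapDomain io q := fun io u hu' q => by
      induction q using MonoidAlgebra.induction_linear with
      | zero => simp
      | add a b ha hb => rw [map_add, ha, hb, MonoidAlgebra.mapDomain_add]
      | single i a =>
        rw [show i = Multiplicative.ofAdd i.toAdd from rfl, sigma_single, MonoidAlgebra.mapDomain_single]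
        have : u = Units.map (MonoidAlgebra.of k _) (toUnits (io (Multiplicative.ofAdd (1 : ℤ)))) := Units.ext hu'
        rw [this, ← map_zpow, ← map_zpow, ← map_zpow, ← ofAdd_zsmul, smul_eq_mul, _root_.mul_one]
        show a • MonoidAlgebra.of k _ (io _) = _
        rw [MonoidAlgebra.of_apply, MonoidAlgebra.smul_single', _root_.mul_one]
    refine exists_single (hone m) ?_
    rw [hs ((MonoidHom.id _).prod (MonoidHom.id _)) (u₁ * u₂) (by simp [u₁, u₂]; rw [← map_mul, Prod.mk_mul_mk, _root_.mul_one, _root_.one_mul]; rfl),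
      hs (MonoidHom.inl _ _) u₁ rfl, hs (MonoidHom.inr _ _) u₂ rfl] at this
    exact this
  choose ε hε using hdiag
  refine ⟨fun m => ε (Multiplicative.ofAdd m), fun C _ _ u => ⟨(sigma u).comp lam, hu C u, fun m => ?_⟩⟩
  rw [AlgHom.comp_apply, hε, sigma_single, one_smul]
  rfl

omit he in
/-- Characters are independent on rational points. -/
theorem eq_zero_of_forall_sum [IsAlgClosed k] (s : Finset (Lat' n)) (c : Lat' n → k)
    (h : ∀ f : MonoidAlgebra k (Lat' n) →ₐ[k] k, ∑ m ∈ s, c m * f (MonoidAlgebra.single m 1) = 0) :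
    ∀ m ∈ s, c m = 0 := by
  let χ : Lat' n → ((Fin n → kˣ) →* k) := fun m =>
    (Units.coeHom k).comp { toFun := fun t => ∏ j, t j ^ (m.toAdd j), map_one' := by simp,
                            map_mul' := fun a b => by simp [mul_zpow, Finset.prod_mul_distrib] }
  have hinj : Function.Injective χ := fun a b hab => by
    refine Multiplicative.toAdd.injective (funext fun j => ?_)
    by_contra hne
    have hd : (a.toAdd j - b.toAdd j).natAbs ≠ 0 := by simpa [sub_eq_zero] using hne
    haveI : NeZero (a.toAdd j - b.toAdd j).natAbs := ⟨hd⟩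
    haveI : Infinite kˣ := by
      haveI : Infinite {a : k // a ≠ 0} := ((Set.finite_singleton (0 : k)).infinite_compl).to_subtype
      exact Infinite.of_injective unitsEquivNeZero.symm unitsEquivNeZero.symm.injective
    obtain ⟨u, hu⟩ := Set.Infinite.nonempty ((Set.infinite_univ (α := kˣ)).sdiff
      (Set.finite_coe_iff.1 (inferInstanceAs (Finite (rootsOfUnity (a.toAdd j - b.toAdd j).natAbs k))) : ((rootsOfUnity (a.toAdd j - b.toAdd j).natAbs k : Set kˣ)).Finite))
    have h1 := congrArg (fun φ : (Fin n → kˣ) →* k => φ (Pi.mulSingle j u)) hab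
    simp only [χ, MonoidHom.comp_apply, MonoidHom.coe_mk, OneHom.coe_mk, Units.coeHom_apply, Units.val_inj] at h1
    rw [Finset.prod_eq_single j (fun i _ hij => by simp [Pi.mulSingle_eq_of_ne hij]) (by simp),
      Finset.prod_eq_single j (fun i _ hij => by simp [Pi.mulSingle_eq_of_ne hij]) (by simp),
      Pi.mulSingle_eq_same] at h1
    refine hu.2 ((mem_rootsOfUnity _ _).2 ?_)
    have h2 : u ^ (a.toAdd j - b.toAdd j) = 1 := by rw [zpow_sub, h1, mul_inv_cancel]
    rcases Int.natAbs_eq (a.toAdd j - b.toAdd j) with h3 | h3 <;> rw [h3] at h2 <;> simpa using h2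
  have hli := (linearIndependent_monoidHom (Fin n → kˣ) k).comp χ hinj
  refine fun m hm => linearIndependent_iff'.1 hli s c (funext fun t => ?_) m hm
  let f : MonoidAlgebra k (Lat' n) →ₐ[k] k := MonoidAlgebra.lift k k (Lat' n)
    { toFun := fun m => χ m t, map_one' := by simp [χ], map_mul' := fun a b => by simp [χ, zpow_add, Finset.prod_mul_distrib] }
  simpa [f] using h f

end Groth.Agent.HMTorus
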