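import Groth.Agent.TorusPts.Scheme
import Groth.Agent.GrpSchLib.MultTypeBC
import Groth.Agent.GrpSchLib.AffineHopf

/-!
# Tori over algebraically closed fields are split
-/

set_option autoImplicit false

universe u

open CategoryTheory CategoryTheory.Limits MonoidalCategory CartesianMonoidalCategory MonObj AlgebraicGeometry TensorProduct

namespace Groth.Agent.HMTorus

open GrpSchLib.AffineHopf GrpSchLib.MultTypeBC

/-- A torus over an algebraically closed field is the spectrum of a group algebra. -/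
theorem exists_split (k : Type u) [Field k] [IsAlgClosed k] (T : Over (Spec (CommRingCat.of k))) [GrpObj T]
    (hT : Red.IsTorus T) :
    ∃ (n : ℕ) (e : sp k (MonoidAlgebra k (Multiplicative (Fin n → ℤ))) ≅ T), IsMonHom e.hom := by
  obtain ⟨S', f, -, hs, -, hloc⟩ := hT
  obtain ⟨s', -⟩ := f.surjective (IsLocalRing.closedPoint k : Spec (CommRingCat.of k))
  obtain ⟨U, hU, r, ⟨e₀⟩⟩ := hloc s'
  let u₀ : U.toScheme := ⟨s', hU⟩
  let L := U.toScheme.residueField u₀
  let q : Spec (CommRingCat.of L) ⟶ U.toScheme := U.toScheme.fromSpecResidueField u₀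
  letI : Algebra k L := (Spec.preimage (q ≫ U.ι ≫ f)).hom.toAlgebra
  have hq : q ≫ U.ι ≫ f = Spec.map (CommRingCat.ofHom (algebraMap k L)) := by
    rw [show algebraMap k L = (Spec.preimage (q ≫ U.ι ≫ f)).hom from rfl, CommRingCat.ofHom_hom, Spec.map_preimage]
  have hsplit : ∃ (L : Type u) (_ : Field L) (_ : Algebra k L),
      Red.IsSplitTorusWith (Fin r → ℤ) (Red.bc (Spec.map (CommRingCat.ofHom (algebraMap k L))) T) := by
    obtain ⟨e₁⟩ := bc_bc q (U.ι ≫ f) T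
    obtain ⟨e₂⟩ := bc_congr hq T
    obtain ⟨e₃⟩ := bc_iso q e₀
    obtain ⟨e₄⟩ := bc_DS q (Fin r → ℤ)
    exact ⟨L, inferInstance, inferInstance, ⟨e₂.symm ≪≫ e₁.symm ≪≫ e₃ ≪≫ e₄⟩⟩
  obtain ⟨L₁, _, _, ⟨es⟩⟩ := hsplit
  let φ := Spec.map (CommRingCat.ofHom (algebraMap k L₁))
  obtain ⟨d⟩ := nonempty_DS_iso L₁ (Fin r → ℤ)
  haveI : IsAffine (pullback T.hom φ) :=
    @IsAffine.of_isIso _ _ ((Over.forget _).mapIso ((Grp.forget _).mapIso (es.trans d.symm))).hom (Iso.isIso_hom _)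
      (isAffine_Spec _)
  have hA : IsAffineHom (pullback.snd T.hom φ) := isAffineHom_of_isAffine (pullback.snd T.hom φ)
  haveI := EtFound.fpqc_isAffineHom.{u}
  haveI : Surjective φ := ⟨fun x => ⟨(IsLocalRing.closedPoint L₁ : Spec (CommRingCat.of L₁)), Subsingleton.elim _ _⟩⟩
  haveI : Flat φ := by
    rw [Flat.SpecMap_iff]
    show (algebraMap k L₁).Flat
    rw [RingHom.flat_algebraMap_iff]
    infer_instance
  haveI : IsAffineHom T.hom := MorphismProperty.of_pullback_snd_of_descendsAlong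
    (Q := (@Surjective ⊓ @Flat ⊓ @QuasiCompact : MorphismProperty Scheme.{u})) ⟨⟨‹_›, ‹_›⟩, inferInstance⟩ hA
  haveI : IsAffine T.left := isAffine_of_isAffineHom T.hom
  obtain ⟨A, _, _, ⟨t⟩⟩ := exists_hopf T
  obtain ⟨b⟩ := nonempty_bc_sp (R := k) L₁ A
  obtain ⟨e₁⟩ := TorusPts.exists_bialgEquiv (b.symm.trans (((Over.pullback φ).mapGrp.mapIso t).trans (es.trans d.symm)))
  obtain ⟨L, _, _, hfin, -, ⟨e₂⟩⟩ := TorusPts.exists_galois_split L₁
    (e₁.trans (MonoidAlgebra.domCongrBialgEquiv L₁ L₁ MulEquiv.ulift.symm))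
  haveI := hfin
  have hbij : Function.Bijective (algebraMap k L) := IsAlgClosed.algebraMap_bijective_of_isIntegral
  let θ := (RingEquiv.ofBijective (algebraMap k L) hbij).symm
  letI : Algebra L k := θ.toRingHom.toAlgebra
  let φ' := Spec.map (CommRingCat.ofHom (algebraMap k L))
  let j := Spec.map (CommRingCat.ofHom θ.toRingHom)
  have hj : j ≫ φ' = 𝟙 _ := by
    rw [← Spec.map_comp, ← CommRingCat.ofHom_comp,
      show θ.toRingHom.comp (algebraMap k L) = RingHom.id k from RingHom.ext fun x =>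
        (RingEquiv.ofBijective (algebraMap k L) hbij).symm_apply_apply x]
    exact Spec.map_id _
  obtain ⟨b'⟩ := nonempty_bc_sp (R := k) L A
  obtain ⟨d'⟩ := nonempty_DS_iso L (Fin r → ℤ)
  obtain ⟨d''⟩ := nonempty_DS_iso k (Fin r → ℤ)
  let eL : Grp.mk (Red.bc φ' T) ≅ Grp.mk (Red.DS (Spec (CommRingCat.of L)) (Fin r → ℤ)) :=
    ((Over.pullback φ').mapGrp.mapIso t).symm.trans (b'.trans ((spIso
      (e₂.trans (MonoidAlgebra.domCongrBialgEquiv L L MulEquiv.ulift)).symm).trans d'))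
  obtain ⟨c₁⟩ := bc_bc j φ' T
  obtain ⟨c₂⟩ := bc_congr hj T
  obtain ⟨c₃⟩ := bc_iso j eL
  obtain ⟨c₄⟩ := bc_DS j (Fin r → ℤ)
  let c₀ : Grp.mk (Red.bc (𝟙 _) T) ≅ Grp.mk T := (Functor.mapGrpNatIso Over.pullbackId).app (Grp.mk T)
  let c := d''.trans (c₄.symm.trans (c₃.symm.trans (c₁.trans (c₂.trans c₀))))
  exact ⟨r, (Grp.forget _).mapIso c, c.hom.hom.isMonHom_hom⟩

end Groth.Agent.HMTorus
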