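import Groth.Agent.HMTorus.Limit

/-!
# The weight on the fibre over a fixed point
-/

set_option autoImplicit false
set_option backward.isDefEq.respectTransparency.types false

universe u

open CategoryTheory CategoryTheory.Limits MonoidalCategory CartesianMonoidalCategory MonObj AlgebraicGeometry Opposite

noncomputable section

namespace Groth.Agent.HMTorus

open GrpSchLib.AffineHopf

variable {k : Type u} [Field k]

/-- The point of the spectrum of the field. -/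
def pt1 : 𝟙_ (Over (Spec (CommRingCat.of k))) ⟶ sp k k := toSp (sc (𝟙_ _)) fun _ => rfl

theorem toUnit_pt1 : toUnit (sp k k) ≫ pt1 = 𝟙 _ := by
  refine sp_hom_ext fun z => ?_
  refine (GmPts.appTop_comp_apply (toUnit (sp k k)).left (pt1 (k := k)).left _).trans ?_
  rw [pt1, toSp_gl, comp_sc, sc_sp]
  refine Eq.symm ?_
  show (𝟙 (sp k k).left : _ ⟶ _).appTop (gl k z) = _
  rw [Scheme.Hom.id_appTop]
  rfl

theorem pt1_toUnit : pt1 (k := k) ≫ toUnit (sp k k) = 𝟙 _ :=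
  (Category.comp_id _).symm.trans (congrArg (fun h => (pt1 (k := k) ≫ toUnit _) ≫ h) toUnit_unit.symm) |>.trans
    ((comp_toUnit _).trans toUnit_unit)

/-- The universal point of the multiplicative group. -/
abbrev uZ : sp k (Lz k) ⟶ Red.Gm (Spec (CommRingCat.of k)) := upt (k := k) (zu (k := k))

/-- Points of the multiplicative group factor through the spectrum of the group algebra. -/
theorem exists_gm_fac {T : Over (Spec (CommRingCat.of k))} (g : T ⟶ Red.Gm (Spec (CommRingCat.of k))) :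
    ∃ q : T ⟶ sp k (Lz k), g = q ≫ uZ (k := k) := by
  let u := GmPts.unitOfPt g
  let φ : Lz k →+* Γ(T.left, ⊤) := MonoidAlgebra.liftNCRingHom (sc T)
    ((Units.coeHom _).comp (zpowersHom (Γ(T.left, ⊤))ˣ u)) (fun _ _ => Commute.all _ _)
  have hφ : ∀ i : ℤ, φ (MonoidAlgebra.single (Multiplicative.ofAdd i) 1) = ((u ^ i : (Γ(T.left, ⊤))ˣ) : Γ(T.left, ⊤)) :=
    fun i => by simp [φ, MonoidAlgebra.liftNCRingHom, zpowersHom_apply]
  have hc : ∀ c, φ (algebraMap k (Lz k) c) = sc T c := fun c => by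
    simp [φ, MonoidAlgebra.liftNCRingHom, MonoidAlgebra.coe_algebraMap]
  refine ⟨toSp φ hc, (GmPts.equiv T).injective (Units.ext ?_)⟩
  show (GmPts.unitOfPt g).val = (GmPts.unitOfPt (toSp φ hc ≫ uZ (k := k))).val
  rw [GmPts.unitOfPt_comp]
  show _ = (toSp φ hc).left.appTop ((GmPts.unitOfPt (uZ (k := k))).val)
  rw [unitOfPt_upt, toSp_gl]
  refine ((hφ 1).trans (congrArg Units.val (zpow_one u))).symm.trans (congrArg φ ?_)
  exact ((zu_zpow 1).symm.trans (congrArg Units.val (zpow_one zu)))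

theorem gm_hom_ext {Y : Over (Spec (CommRingCat.of k))} {f g : Red.Gm (Spec (CommRingCat.of k)) ⟶ Y}
    (h : uZ (k := k) ≫ f = uZ (k := k) ≫ g) : f = g := by
  obtain ⟨q, hq⟩ := exists_gm_fac (𝟙 (Red.Gm (Spec (CommRingCat.of k))))
  rw [← Category.id_comp f, ← Category.id_comp g, hq, Category.assoc, Category.assoc, h]

variable {V X' : Over (Spec (CommRingCat.of k))}

theorem evalFn_comp (π : V ⟶ X') {U : X'.left.Opens} (y : Γ(V.left, π.left ⁻¹ᵁ U)) {T T' : Over (Spec (CommRingCat.of k))}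
    (g : T' ⟶ T) (v : T ⟶ V) (h : ⊤ ≤ v.left ⁻¹ᵁ (π.left ⁻¹ᵁ U)) (h' : ⊤ ≤ (g ≫ v).left ⁻¹ᵁ (π.left ⁻¹ᵁ U)) :
    HMNum.evalFn π y (g ≫ v) h' = g.left.appTop (HMNum.evalFn π y v h) := by
  rw [HMNum.evalFn, HMNum.evalFn]
  exact (congrArg (fun ψ => (ConcreteCategory.hom ψ) y)
    (Scheme.Hom.appLE_comp_appLE g.left v.left (π.left ⁻¹ᵁ U) ⊤ ⊤ h le_rfl)).symm.trans
    (congrArg (fun ψ => (ConcreteCategory.hom ψ) (v.left.appLE _ ⊤ h y)) (Scheme.Hom.appLE_eq_app g.left))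

theorem evalFn_congr (π : V ⟶ X') {U : X'.left.Opens} (y : Γ(V.left, π.left ⁻¹ᵁ U)) {T : Over (Spec (CommRingCat.of k))}
    {v v' : T ⟶ V} (e : v = v') (h : ⊤ ≤ v.left ⁻¹ᵁ (π.left ⁻¹ᵁ U)) (h' : ⊤ ≤ v'.left ⁻¹ᵁ (π.left ⁻¹ᵁ U)) :
    HMNum.evalFn π y v h = HMNum.evalFn π y v' h' := by
  subst e; rfl

/-- A point with coordinate one over a rational point. -/
theorem exists_unit_pt {π : V ⟶ X'} [IsAffineHom π.left] {U : X'.left.Opens} {y : Γ(V.left, π.left ⁻¹ᵁ U)}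
    (hy : GLinSh.IsFibreCoord π U y) (x : 𝟙_ (Over (Spec (CommRingCat.of k))) ⟶ X') (hU : x.left ⁻¹ᵁ U = ⊤) :
    ∃ (v : 𝟙_ (Over (Spec (CommRingCat.of k))) ⟶ V) (hv : v ≫ π = x) (h : ⊤ ≤ v.left ⁻¹ᵁ (π.left ⁻¹ᵁ U)),
      HMNum.evalFn π y v h = 1 := by
  haveI : IsAffine (𝟙_ (Over (Spec (CommRingCat.of k)))).left := inferInstanceAs (IsAffine (Spec (CommRingCat.of k)))
  obtain ⟨W, hWa, hxW, hWU⟩ := TopologicalSpace.Opens.isBasis_iff_nbhd.1 X'.left.isBasis_affineOpens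
    (show x.left.base (IsLocalRing.closedPoint k) ∈ U from hU.ge trivial)
  replace hWa : IsAffineOpen W := hWa
  have hW := HMTransLib.top_of_mem x hxW
  have hVa : IsAffineOpen (π.left ⁻¹ᵁ W) := hWa.preimage π.left
  let E := RingEquiv.ofBijective _ (hy W hWa hWU)
  let ρ : Γ(V.left, π.left ⁻¹ᵁ W) →+* Γ((𝟙_ (Over (Spec (CommRingCat.of k)))).left, ⊤) :=
    (Polynomial.eval₂RingHom (x.left.appLE W ⊤ hW.ge).hom 1).comp E.symm.toRingHom
  have hρ₁ : ρ (GLinSh.res π hWU y) = 1 := by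
    have : E.symm (GLinSh.res π hWU y) = Polynomial.X := by
      rw [RingEquiv.symm_apply_eq]; simp [E]
    simp [ρ, this]
  have hρ₂ : π.left.app W ≫ CommRingCat.ofHom ρ = x.left.appLE W ⊤ hW.ge := by
    refine CommRingCat.hom_ext (RingHom.ext fun c => ?_)
    have : E.symm (π.left.app W c) = Polynomial.C c := by
      rw [RingEquiv.symm_apply_eq]; simp [E]
    simp [ρ, this]
  let v₀ : (𝟙_ (Over (Spec (CommRingCat.of k)))).left ⟶ V.left :=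
    (𝟙_ (Over (Spec (CommRingCat.of k)))).left.isoSpec.hom ≫ Spec.map (CommRingCat.ofHom ρ) ≫ hVa.fromSpec
  have hv₀ : v₀ ≫ π.left = x.left := by
    simp only [v₀, Category.assoc]
    rw [← IsAffineOpen.SpecMap_appLE_fromSpec π.left hWa hVa le_rfl, ← Spec.map_comp_assoc, Scheme.Hom.appLE_eq_app]
    refine (congrArg (fun z => (𝟙_ (Over (Spec (CommRingCat.of k)))).left.isoSpec.hom ≫ Spec.map z ≫ hWa.fromSpec) hρ₂).trans ?_
    rw [IsAffineOpen.SpecMap_appLE_fromSpec x.left hWa (isAffineOpen_top _) hW.ge, IsAffineOpen.fromSpec_top,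
      Iso.hom_inv_id_assoc]
  let v : 𝟙_ (Over (Spec (CommRingCat.of k))) ⟶ V := Over.homMk v₀ (by
    rw [← Over.w π, ← Category.assoc, hv₀]; exact Over.w x)
  have hv : v ≫ π = x := Over.OverMorphism.ext hv₀
  have hvU : ⊤ ≤ v.left ⁻¹ᵁ (π.left ⁻¹ᵁ U) := by
    show ⊤ ≤ (v ≫ π).left ⁻¹ᵁ U
    rw [hv, hU]
  have hvW : ⊤ ≤ v.left ⁻¹ᵁ (π.left ⁻¹ᵁ W) := by
    show ⊤ ≤ (v ≫ π).left ⁻¹ᵁ W
    rw [hv, hW]
  have hvρ : v.left.appLE (π.left ⁻¹ᵁ W) ⊤ hvW = CommRingCat.ofHom ρ := by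
    refine Spec.map_injective ((cancel_mono hVa.fromSpec).1 ?_)
    rw [IsAffineOpen.SpecMap_appLE_fromSpec v.left hVa (isAffineOpen_top _) hvW, IsAffineOpen.fromSpec_top]
    show _ ≫ v₀ = _
    simp only [v₀, Iso.inv_hom_id_assoc]
    rfl
  refine ⟨v, hv, hvU, ?_⟩
  have := congrArg (fun ψ => (ConcreteCategory.hom ψ) (GLinSh.res π hWU y)) hvρ
  refine Eq.trans ?_ (this.trans hρ₁)
  exact (congrArg (fun ψ => (ConcreteCategory.hom ψ) y)
    (Scheme.Hom.map_appLE v.left hvW (homOfLE (π.left.preimage_mono hWU)).op)).symm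

variable {G : Over (Spec (CommRingCat.of k))} [GrpObj G] {a : AlgGrp.Action G X'} (B : GLinSh.LinBun G a)

theorem lift_act_π {T : Over (Spec (CommRingCat.of k))} (h : T ⟶ G) (v : T ⟶ B.V) :
    (lift h v ≫ B.lift.act) ≫ B.π = lift h (v ≫ B.π) ≫ a.act := by
  rw [Category.assoc, B.lift_π, lift_whiskerLeft_assoc]

/-- The cocycle of the linearisation at a point. -/
def cval {U U' : X'.left.Opens} (c : Γ((G ⊗ X').left, a.act.left ⁻¹ᵁ U' ⊓ (snd G X').left ⁻¹ᵁ U))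
    {T : Over (Spec (CommRingCat.of k))} (h : T ⟶ G) (x : T ⟶ X')
    (hW : ⊤ ≤ (lift h x).left ⁻¹ᵁ (a.act.left ⁻¹ᵁ U' ⊓ (snd G X').left ⁻¹ᵁ U)) : Γ(T.left, ⊤) :=
  (lift h x).left.appLE _ ⊤ hW c

theorem top_le_lift {U U' : X'.left.Opens} {T : Over (Spec (CommRingCat.of k))} {h : T ⟶ G} {x : T ⟶ X'}
    (hU : x.left ⁻¹ᵁ U = ⊤) (hU' : (lift h x ≫ a.act).left ⁻¹ᵁ U' = ⊤) :
    ⊤ ≤ (lift h x).left ⁻¹ᵁ (a.act.left ⁻¹ᵁ U' ⊓ (snd G X').left ⁻¹ᵁ U) := by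
  intro t ht
  refine ⟨hU'.ge ht, ?_⟩
  show t ∈ (lift h x ≫ snd G X').left ⁻¹ᵁ U
  rw [lift_snd]; exact hU.ge ht

theorem cval_comp {U U' : X'.left.Opens} (c : Γ((G ⊗ X').left, a.act.left ⁻¹ᵁ U' ⊓ (snd G X').left ⁻¹ᵁ U))
    {T T' : Over (Spec (CommRingCat.of k))} (g : T' ⟶ T) {h : T ⟶ G} {x : T ⟶ X'} {h' : T' ⟶ G} {x' : T' ⟶ X'}
    (eh : g ≫ h = h') (ex : g ≫ x = x')
    (hW : ⊤ ≤ (lift h x).left ⁻¹ᵁ (a.act.left ⁻¹ᵁ U' ⊓ (snd G X').left ⁻¹ᵁ U))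
    (hW' : ⊤ ≤ (lift h' x').left ⁻¹ᵁ (a.act.left ⁻¹ᵁ U' ⊓ (snd G X').left ⁻¹ᵁ U)) :
    cval c h' x' hW' = g.left.appTop (cval c h x hW) := by
  have key : ∀ (f f' : T'.left ⟶ (G ⊗ X').left) (hf : f = f') (e₁ e₂), f.appLE _ ⊤ e₁ c = f'.appLE _ ⊤ e₂ c := by
    rintro f f' rfl e₁ e₂; rfl
  have hl : (lift h' x').left = g.left ≫ (lift h x).left := by
    rw [← Over.comp_left, comp_lift, eh, ex]
  refine (key _ _ hl hW' (by rw [← hl]; exact hW')).trans ?_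
  exact (congrArg (fun ψ => (ConcreteCategory.hom ψ) c)
    (Scheme.Hom.appLE_comp_appLE g.left (lift h x).left _ ⊤ ⊤ hW le_rfl)).symm.trans
    (congrArg (fun ψ => (ConcreteCategory.hom ψ) (cval c h x hW)) (Scheme.Hom.appLE_eq_app g.left))

theorem exists_cval {U U' : X'.left.Opens} {y : Γ(B.V.left, B.π.left ⁻¹ᵁ U)}
    {y' : Γ(B.V.left, B.π.left ⁻¹ᵁ U')} (hy : y ∈ B.atlas.chart U) (hy' : y' ∈ B.atlas.chart U') :
    ∃ c, ∀ {T : Over (Spec (CommRingCat.of k))} (h : T ⟶ G) (x : T ⟶ X')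
      (hW : ⊤ ≤ (lift h x).left ⁻¹ᵁ (a.act.left ⁻¹ᵁ U' ⊓ (snd G X').left ⁻¹ᵁ U))
      (v : T ⟶ B.V) (_ : v ≫ B.π = x) (h₁ : ⊤ ≤ (lift h v ≫ B.lift.act).left ⁻¹ᵁ (B.π.left ⁻¹ᵁ U'))
      (h₂ : ⊤ ≤ v.left ⁻¹ᵁ (B.π.left ⁻¹ᵁ U)),
      HMNum.evalFn B.π y' (lift h v ≫ B.lift.act) h₁ = cval c h x hW * HMNum.evalFn B.π y v h₂ := by
  obtain ⟨c, hc⟩ := B.lift_linear U U' y y' hy hy'
  refine ⟨c, fun {T} h x hW v hv h₁ h₂ => ?_⟩
  have hx : (lift h v).left ≫ (G ◁ B.π).left = (lift h x).left := by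
    rw [← Over.comp_left, lift_whiskerLeft, hv]
  have hs : (lift h v).left ≫ (snd G B.V).left = v.left := by rw [← Over.comp_left, lift_snd]
  have hL : (⊤ : T.left.Opens) ≤ (lift h v).left ⁻¹ᵁ GLinSh.liftOpen a B.π U U' := by
    refine le_trans hW (le_of_eq ?_)
    rw [← hx]; rfl
  have e := congrArg ((lift h v).left.appLE (GLinSh.liftOpen a B.π U U') ⊤ hL) hc
  simp only [map_mul, ← CommRingCat.comp_apply, Scheme.Hom.appLE_comp_appLE] at e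
  refine e.trans (congrArg₂ (· * ·) ?_ ?_)
  · have key : ∀ (f f' : T.left ⟶ (G ⊗ X').left) (hf : f = f') (e₁ e₂), f.appLE _ ⊤ e₁ c = f'.appLE _ ⊤ e₂ c := by
      rintro f f' rfl e₁ e₂; rfl
    exact key _ _ hx _ _
  · have key : ∀ (f f' : T.left ⟶ B.V.left) (hf : f = f') (e₁ e₂),
        f.appLE (B.π.left ⁻¹ᵁ U) ⊤ e₁ y = f'.appLE (B.π.left ⁻¹ᵁ U) ⊤ e₂ y := by
      rintro f f' rfl e₁ e₂; rfl
    exact key _ _ hs _ _

/-- The fibre at a fixed rational point has a weight. -/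
theorem exists_hasFibreWeight (l : Red.Gm (Spec (CommRingCat.of k)) ⟶ G) [IsMonHom l]
    (x : 𝟙_ (Over (Spec (CommRingCat.of k))) ⟶ X') (hfix : HMNum.IsFixedBy a l x) :
    ∃ w, HMNum.HasFibreWeight B l x w := by
  haveI := B.atlas.affine
  obtain ⟨U, hxU, y, hy⟩ := B.atlas.cover (x.left.base (IsLocalRing.closedPoint k))
  have hU := HMTransLib.top_of_mem x hxU
  obtain ⟨c, hc⟩ := exists_cval B hy hy
  obtain ⟨v₁, hv₁, hv₁U, hy₁⟩ := exists_unit_pt (B.atlas.coord U y hy) x hU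
  have hUt : ∀ {T : Over (Spec (CommRingCat.of k))} (t : T ⟶ 𝟙_ _), (t ≫ x).left ⁻¹ᵁ U = ⊤ := fun t => by
    show t.left ⁻¹ᵁ (x.left ⁻¹ᵁ U) = ⊤
    rw [hU]; rfl
  have hW : ∀ {T : Over (Spec (CommRingCat.of k))} (g : T ⟶ Red.Gm (Spec (CommRingCat.of k))) (t : T ⟶ 𝟙_ _),
      ⊤ ≤ (lift (g ≫ l) (t ≫ x)).left ⁻¹ᵁ (a.act.left ⁻¹ᵁ U ⊓ (snd G X').left ⁻¹ᵁ U) := fun g t =>
    top_le_lift (hUt t) (by rw [hfix _ t g]; exact hUt t)
  let χ := fun {T : Over (Spec (CommRingCat.of k))} (g : T ⟶ Red.Gm (Spec (CommRingCat.of k))) =>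
    cval c (g ≫ l) (toUnit T ≫ x) (hW g (toUnit T))
  have hval : ∀ {T : Over (Spec (CommRingCat.of k))} (g : T ⟶ Red.Gm (Spec (CommRingCat.of k))) (v : T ⟶ B.V)
      (hv : v ≫ B.π = toUnit T ≫ x) (h₁ : ⊤ ≤ (lift (g ≫ l) v ≫ B.lift.act).left ⁻¹ᵁ (B.π.left ⁻¹ᵁ U))
      (h₂ : ⊤ ≤ v.left ⁻¹ᵁ (B.π.left ⁻¹ᵁ U)),
      HMNum.evalFn B.π y (lift (g ≫ l) v ≫ B.lift.act) h₁ = χ g * HMNum.evalFn B.π y v h₂ :=
    fun g v hv h₁ h₂ => hc (g ≫ l) _ (hW g _) v hv h₁ h₂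
  have hu : ∀ (T : Over (Spec (CommRingCat.of k))), ∃ (v : T ⟶ B.V) (hv : v ≫ B.π = toUnit T ≫ x),
      HMNum.evalFn B.π y v (HMNum.top_le_preimage B.π hU hv) = 1 := fun T => by
    refine ⟨toUnit T ≫ v₁, by rw [Category.assoc, hv₁], ?_⟩
    rw [evalFn_comp B.π y (toUnit T) v₁ hv₁U, hy₁, map_one]
  have hmul : ∀ {T : Over (Spec (CommRingCat.of k))} (g g' : T ⟶ Red.Gm (Spec (CommRingCat.of k))),
      χ (g * g') = χ g * χ g' := fun {T} g g' => by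
    obtain ⟨v, hv, hv1⟩ := hu T
    have hv' : (lift (g' ≫ l) v ≫ B.lift.act) ≫ B.π = toUnit T ≫ x := by rw [lift_act_π, hv, hfix]
    have hv'' : (lift (g ≫ l) (lift (g' ≫ l) v ≫ B.lift.act) ≫ B.lift.act) ≫ B.π = toUnit T ≫ x := by
      rw [lift_act_π, hv', hfix]
    have h3 : (lift ((g * g') ≫ l) v ≫ B.lift.act) ≫ B.π = toUnit T ≫ x := by rw [lift_act_π, hv, hfix]
    have e1 := hval g _ hv' (HMNum.top_le_preimage B.π hU hv'') (HMNum.top_le_preimage B.π hU hv')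
    have e2 := hval g' v hv (HMNum.top_le_preimage B.π hU hv') (HMNum.top_le_preimage B.π hU hv)
    have e3 := hval (g * g') v hv (HMNum.top_le_preimage B.π hU h3) (HMNum.top_le_preimage B.π hU hv)
    rw [hv1, _root_.mul_one] at e2 e3
    rw [← e3, ← e2, ← e1]
    exact evalFn_congr B.π y (by rw [GrpSchLib.act_mul, MonObj.mul_comp]) _ _
  have hone : χ (1 : sp k (Lz k) ⟶ Red.Gm (Spec (CommRingCat.of k))) = 1 := by
    obtain ⟨v, hv, hv1⟩ := hu (sp k (Lz k))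
    have h1 : (lift (1 ≫ l) v ≫ B.lift.act) ≫ B.π = toUnit _ ≫ x := by rw [lift_act_π, hv, hfix]
    have e := hval 1 v hv (HMNum.top_le_preimage B.π hU h1) (HMNum.top_le_preimage B.π hU hv)
    rw [hv1, _root_.mul_one] at e
    rw [← e, ← hv1]
    exact evalFn_congr B.π y (by rw [MonObj.one_comp, GrpSchLib.act_one]) _ _
  have hnat : ∀ {T T' : Over (Spec (CommRingCat.of k))} (q : T' ⟶ T) (g : T ⟶ Red.Gm (Spec (CommRingCat.of k))),
      χ (q ≫ g) = q.left.appTop (χ g) := fun q g =>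
    cval_comp c q (Category.assoc _ _ _).symm (by rw [← Category.assoc, comp_toUnit]) _ _
  let p : Lz k := gr (Lz k) (χ (uZ (k := k)))
  have hp : ∀ {C : Type u} [CommRing C] [Algebra k C] (u : Cˣ), χ (upt (k := k) u) = gl C (sigma u p) := fun {C} _ _ u => by
    rw [← upt_eq (k := k) u, hnat, ← spMap_gl, gl_gr]
  have hp0 : p ≠ 0 := fun h0 => by
    have h1 : χ (uZ (k := k) * (uZ (k := k))⁻¹) = 1 := by rw [mul_inv_cancel]; exact hone
    have h2 : χ (uZ (k := k)) = 0 := by rw [← gl_gr (χ (uZ (k := k)))]; exact (congrArg (gl (Lz k)) h0).trans (map_zero _)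
    rw [hmul, h2, zero_mul] at h1
    exact zero_ne_one (α := Lz k) (by simpa [map_zero, map_one] using congrArg (gr (k := k) (Lz k)) h1)
  obtain ⟨w, hw⟩ : ∃ w : ℤ, p = MonoidAlgebra.single (Multiplicative.ofAdd w) 1 := by
    let C := MonoidAlgebra k (Multiplicative ℤ × Multiplicative ℤ)
    let u₁ : Cˣ := Units.map (MonoidAlgebra.of k _) (toUnits (Multiplicative.ofAdd (1 : ℤ), 1))
    let u₂ : Cˣ := Units.map (MonoidAlgebra.of k _) (toUnits (1, Multiplicative.ofAdd (1 : ℤ)))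
    have := hmul (upt (k := k) u₁) (upt u₂)
    rw [← upt_mul, hp, hp, hp] at this
    have h := congrArg (gr (k := k) C) this
    simp only [map_mul, gr_gl] at h
    have hs : ∀ (io : Multiplicative ℤ →* Multiplicative ℤ × Multiplicative ℤ) (u : Cˣ),
        (u : C) = MonoidAlgebra.of k _ (io (Multiplicative.ofAdd (1 : ℤ))) →
        ∀ q, sigma u q = MonoidAlgebra.mapDomain io q := fun io u hu' q => by
      induction q using MonoidAlgebra.induction_linear with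
      | zero => simp
      | add a b ha hb => rw [map_add, ha, hb, MonoidAlgebra.mapDomain_add]
      | single i a =>
        rw [show i = Multiplicative.ofAdd i.toAdd from rfl, sigma_single, MonoidAlgebra.mapDomain_single]
        have : u = Units.map (MonoidAlgebra.of k _) (toUnits (io (Multiplicative.ofAdd (1 : ℤ)))) := Units.ext hu'
        rw [this, ← map_zpow, ← map_zpow, ← map_zpow, ← ofAdd_zsmul, smul_eq_mul, _root_.mul_one]
        show a • MonoidAlgebra.of k _ (io _) = _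
        rw [MonoidAlgebra.of_apply, MonoidAlgebra.smul_single', _root_.mul_one]
    refine exists_single hp0 ?_
    rw [hs ((MonoidHom.id _).prod (MonoidHom.id _)) (u₁ * u₂) (by simp [u₁, u₂]; rw [← map_mul, Prod.mk_mul_mk, _root_.mul_one, _root_.one_mul]; rfl),
      hs (MonoidHom.inl _ _) u₁ rfl, hs (MonoidHom.inr _ _) u₂ rfl] at h
    exact h
  refine ⟨w, hfix, U, y, hy, hU, fun T t g v hv hgv => ?_⟩
  obtain rfl : t = toUnit T := toUnit_unique _ _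
  rw [hval g v hv _ (HMNum.top_le_preimage B.π hU hv)]
  congr 1
  obtain ⟨q, rfl⟩ := exists_gm_fac g
  rw [hnat, ← gl_gr (χ (uZ (k := k))), show gr (Lz k) (χ (uZ (k := k))) = p from rfl, hw, GmPts.unitOfPt_comp, ← zu_zpow,
    ← map_zpow]
  show q.left.appTop (gl _ _) = q.left.appTop ((GmPts.unitOfPt (uZ (k := k)) ^ w).val)
  congr 1
  rw [uZ, upt, GmPts.unitOfPt_ptOfUnit, ← map_zpow]
  rfl

end Groth.Agent.HMTorus
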